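import Cfsg.Agent.Lib.Involutions.CentricFusion
import Cfsg.Agent.Lib.PGroups.MaximalClassTwo
import Cfsg.Agent.Lib.PGroups.UniqueOrderP
import Cfsg.Agent.Lib.Transfer.NormalPComplement

/-!
An involution `t` outside a perfect normal subgroup `A` of index two whose centralizer in `A` has
cyclic Sylow 2-subgroups of order four: the commutator subgroup `N` of the Sylow 2-subgroup `T` is
cyclic, inverted by `t`, and every element of it is of the form `s⁻¹ t s t`.
-/

set_option autoImplicit false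
set_option linter.style.haveILetI false

namespace CfsgLib.SemiCyc4

open Subgroup
open scoped commutatorElement

/-- The data of the problem. -/
structure Setup (K : Type*) [Group K] where
  A : Subgroup K
  T : Sylow 2 K
  t : K
  c : K
  normal : A.Normal
  perfect : ⁅A, A⁆ = A
  t_ord : orderOf t = 2
  t_mem : t ∈ T
  t_not : t ∉ A
  cover : ∀ x : K, x ∈ A ∨ t * x ∈ A
  c_memA : c ∈ A
  c_memT : c ∈ T
  c_comm : c * t = t * c
  c_ord : orderOf c = 4
  small : ∀ P : Subgroup K, P ≤ A → (∀ x ∈ P, x * t = t * x) → IsPGroup 2 P →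
    IsCyclic P ∧ Nat.card P ≤ 4

/-- Odd powers are injective at the identity of a 2-group. -/
theorem eq_one_of_odd_zpow {X : Type*} [Group X] (hX : IsPGroup 2 X) {x : X} {o : ℤ} (ho : Odd o)
    (h : x ^ o = 1) : x = 1 := by
  obtain ⟨k, hk⟩ := hX x
  have hcop : IsCoprime o ((2 ^ k : ℕ) : ℤ) := by
    push_cast
    obtain ⟨q, rfl⟩ := ho
    exact IsCoprime.pow_right ⟨1, -q, by ring⟩
  obtain ⟨u, v, huv⟩ := hcop
  rw [← zpow_one x, ← huv, zpow_add, mul_comm u, mul_comm v, zpow_mul, h, one_zpow, one_mul,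
    zpow_mul, zpow_natCast, hk, one_zpow]

namespace Setup

variable {K : Type*} [Group K] [Finite K] (D : Setup K)

/-- The Sylow 2-subgroup of `A`. -/
def S : Subgroup K := (D.T : Subgroup K) ⊓ D.A

/-- The involution of `⟨c⟩`. -/
def z : K := D.c * D.c

/-- The commutator subgroup of `T`. -/
def N : Subgroup K := ⁅(D.T : Subgroup K), (D.T : Subgroup K)⁆

/-- The map `s ↦ s⁻¹ t s t`. -/
def psi (s : K) : K := s⁻¹ * (D.t * s * D.t)

omit [Finite K] in
theorem tt : D.t * D.t = 1 := by
  rw [← pow_two, ← D.t_ord, pow_orderOf_eq_one]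

omit [Finite K] in
theorem t_inv : D.t⁻¹ = D.t := inv_eq_of_mul_eq_one_right D.tt

omit [Finite K] in
theorem tt_cancel (x : K) : D.t * (D.t * x) = x := by rw [← mul_assoc, D.tt, one_mul]

omit [Finite K] in
theorem t_conj_mem_A {x : K} (hx : x ∈ D.A) : D.t * x * D.t ∈ D.A := by
  have := D.normal.conj_mem x hx D.t
  rwa [D.t_inv] at this

omit [Finite K] in
theorem S_le_T : D.S ≤ (D.T : Subgroup K) := inf_le_left

omit [Finite K] in
theorem S_le_A : D.S ≤ D.A := inf_le_right

omit [Finite K] in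
theorem t_conj_mem_S {x : K} (hx : x ∈ D.S) : D.t * x * D.t ∈ D.S :=
  ⟨mul_mem (mul_mem D.t_mem hx.1) D.t_mem, D.t_conj_mem_A hx.2⟩

omit [Finite K] in
theorem conj_mem_S {a x : K} (ha : a ∈ (D.T : Subgroup K)) (hx : x ∈ D.S) :
    a * x * a⁻¹ ∈ D.S :=
  ⟨(D.T : Subgroup K).mul_mem ((D.T : Subgroup K).mul_mem ha hx.1) ((D.T : Subgroup K).inv_mem ha), D.normal.conj_mem x hx.2 a⟩

omit [Finite K] in
theorem isPGroup_S : IsPGroup 2 D.S := D.T.2.to_le D.S_le_T


omit [Finite K] in
theorem cover_T {x : K} (hx : x ∈ (D.T : Subgroup K)) : x ∈ D.S ∨ ∃ s ∈ D.S, x = D.t * s := by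
  rcases D.cover x with h | h
  · exact Or.inl ⟨hx, h⟩
  · exact Or.inr ⟨D.t * x, ⟨mul_mem D.t_mem hx, h⟩, (D.tt_cancel x).symm⟩

omit [Finite K] in
theorem c_mem : D.c ∈ D.S := ⟨D.c_memT, D.c_memA⟩

omit [Finite K] in
theorem z_mem : D.z ∈ D.S := mul_mem D.c_mem D.c_mem

omit [Finite K] in
theorem zz : D.z * D.z = 1 := by
  show D.c * D.c * (D.c * D.c) = 1
  rw [show D.c * D.c * (D.c * D.c) = D.c ^ 4 by simp [pow_succ, mul_assoc], ← D.c_ord, pow_orderOf_eq_one]

omit [Finite K] in
theorem z_ne : D.z ≠ 1 := fun h => by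
  have h2 : D.c ^ 2 = 1 := by rw [pow_two]; exact h
  have := orderOf_dvd_of_pow_eq_one h2
  rw [D.c_ord] at this
  exact absurd (Nat.le_of_dvd two_pos this) (by norm_num)

omit [Finite K] in
theorem c_sq_ne : D.c * D.c ≠ 1 := D.z_ne

omit [Finite K] in
theorem z_comm_t : D.z * D.t = D.t * D.z := by
  show D.c * D.c * D.t = D.t * (D.c * D.c)
  rw [mul_assoc, D.c_comm, ← mul_assoc, D.c_comm, mul_assoc]

omit [Finite K] in
theorem orderOf_z : orderOf D.z = 2 :=
  orderOf_eq_prime (by rw [pow_two]; exact D.zz) D.z_ne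

/-- Two involutions of a cyclic group coincide. -/
theorem cyclic_involution_eq {P : Subgroup K} [IsCyclic P] {a b : K} (ha : a ∈ P) (hb : b ∈ P)
    (ha2 : a * a = 1) (hb2 : b * b = 1) (ha1 : a ≠ 1) (hb1 : b ≠ 1) : a = b := by
  have hob : orderOf (⟨b, hb⟩ : P) = 2 := by
    refine orderOf_eq_prime ?_ fun h => hb1 (congrArg Subtype.val h)
    exact Subtype.ext (show b ^ 2 = 1 by rw [pow_two, hb2])
  have hoa : (⟨a, ha⟩ : P) ^ orderOf (⟨b, hb⟩ : P) = 1 := by
    rw [hob]; exact Subtype.ext (show a ^ 2 = 1 by rw [pow_two, ha2])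
  obtain ⟨x, hx⟩ := IsCyclic.exists_generator (α := P)
  letI := IsCyclic.commGroup (α := P)
  have hle : Nat.card (powMonoidHom 2 : P →* P).ker ≤ 2 := by
    rw [IsCyclic.card_powMonoidHom_ker]
    exact Nat.le_of_dvd two_pos (Nat.gcd_dvd_right _ _)
  by_contra hne
  classical
  haveI : Fintype (powMonoidHom 2 : P →* P).ker := Fintype.ofFinite _
  rw [Nat.card_eq_fintype_card] at hle
  have h3 : ({⟨1, one_mem _⟩, ⟨⟨a, ha⟩, Subtype.ext (show a ^ 2 = 1 by rw [pow_two, ha2])⟩,
      ⟨⟨b, hb⟩, Subtype.ext (show b ^ 2 = 1 by rw [pow_two, hb2])⟩} :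
      Finset (powMonoidHom 2 : P →* P).ker).card = 3 := by
    rw [Finset.card_eq_three]
    refine ⟨_, _, _, ?_, ?_, ?_, rfl⟩
    · exact fun h => ha1 (congrArg (fun v : (powMonoidHom 2 : P →* P).ker => ((v : P) : K)) h).symm
    · exact fun h => hb1 (congrArg (fun v : (powMonoidHom 2 : P →* P).ker => ((v : P) : K)) h).symm
    · exact fun h => hne (congrArg (fun v : (powMonoidHom 2 : P →* P).ker => ((v : P) : K)) h)
  have := h3 ▸ Finset.card_le_univ _
  omega

/-- The fixed points of `t` in `S` are `⟨c⟩`. -/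
theorem fixed_mem {s : K} (hs : s ∈ D.S) (h : s * D.t = D.t * s) : s ∈ zpowers D.c := by
  set P := D.S ⊓ centralizer ({D.t} : Set K) with hP
  have hcP : D.c ∈ P := ⟨D.c_mem, mem_centralizer_singleton_iff.2 D.c_comm⟩
  have hsP : s ∈ P := ⟨hs, mem_centralizer_singleton_iff.2 h⟩
  obtain ⟨-, hcard⟩ := D.small P (inf_le_left.trans D.S_le_A)
    (fun x hx => mem_centralizer_singleton_iff.1 hx.2) (D.isPGroup_S.to_le inf_le_left)
  have hle : zpowers D.c ≤ P := zpowers_le.2 hcP
  rw [Subgroup.eq_of_le_of_card_ge hle (by rw [Nat.card_zpowers, D.c_ord]; exact hcard)]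
  exact hsP

/-- An involution of `S` fixed by `t` is `z`. -/
theorem fixed_involution {s : K} (hs : s ∈ D.S) (h : s * D.t = D.t * s) (h2 : s * s = 1)
    (h1 : s ≠ 1) : s = D.z :=
  cyclic_involution_eq (D.fixed_mem hs h) (mul_mem (mem_zpowers _) (mem_zpowers _) : D.z ∈ zpowers D.c)
    h2 D.zz h1 D.z_ne

/-- No conjugate of `t` centralises two commuting involutions of `A`. -/
theorem no_four {g a b : K} (ha : a ∈ D.A) (hb : b ∈ D.A) (haC : a * (g * D.t * g⁻¹) = g * D.t * g⁻¹ * a)
    (hbC : b * (g * D.t * g⁻¹) = g * D.t * g⁻¹ * b) (hab : a * b = b * a) (ha2 : a * a = 1)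
    (hb2 : b * b = 1) (ha1 : a ≠ 1) (hb1 : b ≠ 1) : a = b := by
  let f : K →* K := (MulAut.conj g⁻¹).toMonoidHom
  have hf : ∀ x, f x = g⁻¹ * x * g := fun x => by simp [f]
  have hinj : Function.Injective f := (MulAut.conj g⁻¹).injective
  have hft : f (g * D.t * g⁻¹) = D.t := by rw [hf]; group
  have key : ∀ x, x ∈ D.A → x * (g * D.t * g⁻¹) = g * D.t * g⁻¹ * x →
      f x ∈ D.A ⊓ centralizer ({D.t} : Set K) := by
    intro x hx hxC
    refine ⟨?_, mem_centralizer_singleton_iff.2 ?_⟩
    · rw [hf]; exact D.normal.conj_mem' x hx g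
    · simp only [hf]
      calc g⁻¹ * x * g * D.t = g⁻¹ * (x * (g * D.t * g⁻¹)) * g := by group
        _ = g⁻¹ * (g * D.t * g⁻¹ * x) * g := by rw [hxC]
        _ = D.t * (g⁻¹ * x * g) := by group
  set P : Subgroup K := closure {f a, f b} with hP
  have hPle : P ≤ D.A ⊓ centralizer ({D.t} : Set K) :=
    (closure_le _).2 (by
      rintro x (rfl | rfl)
      · exact key a ha haC
      · exact key b hb hbC)
  have hPp : IsPGroup 2 P := by
    haveI : IsMulCommutative P := isMulCommutative_closure (by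
      rintro x (rfl | rfl) y (rfl | rfl)
      · rfl
      · rw [← map_mul, hab, map_mul]
      · rw [← map_mul, ← hab, map_mul]
      · rfl)
    intro x
    refine ⟨1, Subtype.ext ?_⟩
    obtain ⟨x, hx⟩ := x
    show x ^ 2 ^ 1 = 1
    rw [pow_one, pow_two]
    induction hx using closure_induction with
    | mem x hx =>
      rcases hx with rfl | rfl
      · rw [← map_mul, ha2, map_one]
      · rw [← map_mul, hb2, map_one]
    | one => rw [one_mul]
    | mul x y hx hy ihx ihy =>
      have hc : x * y = y * x := congrArg Subtype.val (mul_comm' (⟨x, hx⟩ : P) ⟨y, hy⟩)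
      rw [show x * y * (x * y) = x * (y * x) * y by group, ← hc,
        show x * (x * y) * y = x * x * (y * y) by group, ihx, ihy, one_mul]
    | inv x hx ih => rw [← mul_inv_rev, ih, inv_one]
  obtain ⟨hcyc, -⟩ := D.small P (hPle.trans inf_le_left)
    (fun x hx => mem_centralizer_singleton_iff.1 (hPle hx).2) hPp
  refine hinj (cyclic_involution_eq (P := P) (subset_closure (Or.inl rfl))
    (subset_closure (Or.inr rfl)) ?_ ?_ ?_ ?_)
  · rw [← map_mul, ha2, map_one]
  · rw [← map_mul, hb2, map_one]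
  · exact fun h => ha1 (hinj (h.trans (map_one f).symm))
  · exact fun h => hb1 (hinj (h.trans (map_one f).symm))

omit [Finite K] in
theorem A_hom_trivial (χ : K →* ℤˣ) {a : K} (ha : a ∈ D.A) : χ a = 1 := by
  have h : D.A ≤ χ.ker := by
    rw [← D.perfect, commutator_le]
    intro x _ y _
    rw [MonoidHom.mem_ker, map_commutatorElement, commutatorElement_eq_one_iff_mul_comm, mul_comm]
  exact h ha

/-- A Sylow 2-subgroup of `A`. -/
noncomputable def sylowA : Sylow 2 ↥D.A :=
  haveI : Fact (Nat.Prime 2) := ⟨Nat.prime_two⟩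
  haveI := D.normal
  (D.T.2.comap_subtype (K := D.A)).toSylow
    (Transfer.not_dvd_index_subgroupOf_of_normal D.T D.A)

theorem mem_sylowA {x : ↥D.A} : x ∈ (D.sylowA : Subgroup ↥D.A) ↔ (x : K) ∈ D.S :=
  ⟨fun h => ⟨h, x.2⟩, fun h => h.1⟩

theorem no_complement : ¬ Cfsg.HasNormalPComplement 2 ↥D.A := by
  haveI : Fact (Nat.Prime 2) := ⟨Nat.prime_two⟩
  rintro ⟨P, M, hM, hcompl⟩
  haveI := hM
  have hnil : Group.IsNilpotent (↥D.A ⧸ M) :=
    IsPGroup.isNilpotent (IsPGroup.of_card (p := 2) (n := (Nat.card (P : Subgroup ↥D.A)).factorization 2) (by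
      rw [← Subgroup.index_eq_card, hcompl.symm.index_eq_card]
      obtain ⟨k, hk⟩ := IsPGroup.iff_card.1 P.2
      rw [hk, Nat.Prime.factorization_pow Nat.prime_two, Finsupp.single_eq_same]))
  have hperf : commutator ↥D.A = ⊤ := by
    refine map_injective D.A.subtype_injective ?_
    rw [_root_.commutator_def, map_commutator, ← MonoidHom.range_eq_map, range_subtype, D.perfect]
  have hq : commutator (↥D.A ⧸ M) = ⊤ := by
    rw [_root_.commutator_def, ← map_top_of_surjective (QuotientGroup.mk' M) (QuotientGroup.mk'_surjective M),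
      ← map_commutator, ← _root_.commutator_def, hperf]
  haveI : Group.IsSolvable (↥D.A ⧸ M) := inferInstance
  have htriv : Subsingleton (↥D.A ⧸ M) := by
    by_contra hns
    haveI : Nontrivial (↥D.A ⧸ M) := not_subsingleton_iff_nontrivial.1 hns
    exact (Group.IsSolvable.commutator_lt_top_of_nontrivial (↥D.A ⧸ M)).ne hq
  have hone : (⟨D.c, D.c_memA⟩ : ↥D.A) ∈ M := (QuotientGroup.eq_one_iff _).1 (Subsingleton.elim _ _)
  have h1 : orderOf (⟨D.c, D.c_memA⟩ : ↥D.A) ∣ Nat.card M := by
    rw [← orderOf_mk (⟨D.c, D.c_memA⟩ : ↥D.A) hone]; exact orderOf_dvd_natCard _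
  rw [orderOf_mk, D.c_ord] at h1
  have h2 := P.not_dvd_index
  rw [hcompl.index_eq_card] at h2
  exact h2 ((dvd_trans (by norm_num) h1))

theorem S_not_cyclic : ¬ IsCyclic D.S := by
  haveI : Fact (Nat.Prime 2) := ⟨Nat.prime_two⟩
  intro hcyc
  refine D.no_complement ((Transfer.hasNormalPComplement_iff_forall_centralizing D.sylowA).2 ?_)
  intro Q hQ g hg hcop
  haveI : IsCyclic Q := isCyclic_of_injective
    ((D.A.subtype.comp Q.subtype).codRestrict D.S fun x => D.mem_sylowA.1 (hQ x.2))
    (fun x y h => Subtype.ext (Subtype.ext (congrArg (fun v : D.S => (v : K)) h)))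
  have hodd : Odd (orderOf g) := Nat.coprime_two_right.1 hcop
  rw [mem_centralizer_iff]
  intro q hq
  exact (CfsgLib.Involutions.commute_of_cyclic (D.sylowA.2.to_le hQ) hodd
    (fun a ha => (mem_normalizer_iff.1 hg a).1 ha) q hq).eq.symm

/-- `S` is bigger than `⟨c⟩`. -/
theorem card_S : 8 ≤ Nat.card D.S := by
  haveI : Fact (Nat.Prime 2) := ⟨Nat.prime_two⟩
  obtain ⟨n, hn⟩ := IsPGroup.iff_card.1 D.isPGroup_S
  have hle : zpowers D.c ≤ D.S := zpowers_le.2 D.c_mem
  have hlt : Nat.card (zpowers D.c) < Nat.card D.S := by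
    refine lt_of_le_of_ne (Nat.card_le_card_of_injective _ (inclusion_injective hle)) fun h => ?_
    refine D.S_not_cyclic ?_
    rw [← Subgroup.eq_of_le_of_card_ge hle h.ge]
    infer_instance
  rw [Nat.card_zpowers, D.c_ord, hn] at hlt
  rw [hn]
  rcases le_or_gt 3 n with h | h
  · exact le_trans (by norm_num) (Nat.pow_le_pow_right two_pos h)
  · interval_cases n <;> omega

omit [Finite K] in
theorem psi_mem {s : K} (hs : s ∈ (D.T : Subgroup K)) : D.psi s ∈ D.N := by
  have := commutator_mem_commutator (inv_mem hs) (D.t_mem : D.t ∈ (D.T : Subgroup K))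
  rw [commutatorElement_def, inv_inv, D.t_inv] at this
  show s⁻¹ * (D.t * s * D.t) ∈ D.N
  rwa [show s⁻¹ * (D.t * s * D.t) = s⁻¹ * D.t * s * D.t by group]

omit [Finite K] in
theorem N_le_S : D.N ≤ D.S := by
  refine le_inf (commutator_le.2 fun x hx y hy => ?_) (commutator_le.2 fun x hx y hy => ?_)
  · exact mul_mem (mul_mem (mul_mem hx hy) (inv_mem hx)) (inv_mem hy)
  · haveI := D.normal
    have hcom : ∀ a b : K, (a : K ⧸ D.A) * b = b * a := by
      have hpow : ∀ a : K, (a : K ⧸ D.A) = 1 ∨ (a : K ⧸ D.A) = (D.t : K ⧸ D.A) := by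
        intro a
        rcases D.cover a with h | h
        · exact Or.inl ((QuotientGroup.eq_one_iff a).2 h)
        · refine Or.inr (QuotientGroup.eq.2 ?_).symm
          rwa [D.t_inv]
      intro a b
      rcases hpow a with h | h <;> rcases hpow b with h' | h' <;> rw [h, h'] <;> simp
    rw [← QuotientGroup.eq_one_iff, commutatorElement_def]
    simp only [QuotientGroup.mk_mul, QuotientGroup.mk_inv]
    rw [hcom x y]; group

theorem card_range_psi :
    Nat.card (D.T : Subgroup K) ≤ 8 * Nat.card (Set.range fun s : D.S => D.psi s) := by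
  classical
  haveI : Fact (Nat.Prime 2) := ⟨Nat.prime_two⟩
  have h1 : Nat.card (D.T : Subgroup K) ≤ 2 * Nat.card D.S := by
    have key : ∀ x : (D.T : Subgroup K), ∃ p : Bool × D.S,
        (x : K) = if p.1 then (p.2 : K) else D.t * p.2 := by
      intro x
      rcases D.cover_T x.2 with h | ⟨s, hs, h⟩
      · exact ⟨(true, ⟨x, h⟩), by simp⟩
      · exact ⟨(false, ⟨s, hs⟩), by simp [h]⟩
    choose g hg using key
    refine (Nat.card_le_card_of_injective g fun x y h => Subtype.ext ?_).trans ?_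
    · rw [hg x, hg y, h]
    · rw [Nat.card_prod]; simp
  have h2 : Nat.card D.S ≤ 4 * Nat.card (Set.range fun s : D.S => D.psi s) := by
    let R := Set.range fun s : D.S => D.psi s
    have key : ∀ s : D.S, ∃ p : zpowers D.c × R,
        (s : K) = (p.1 : K) * (Classical.choose p.2.2 : D.S) := by
      intro s
      set r : R := ⟨D.psi s, s, rfl⟩
      set s₀ : D.S := Classical.choose r.2
      have h0 : D.psi s₀ = D.psi s := Classical.choose_spec r.2
      have hcomm : (s : K) * (s₀ : K)⁻¹ * D.t = D.t * ((s : K) * (s₀ : K)⁻¹) := by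
        have h0' : (s₀ : K)⁻¹ * (D.t * (s₀ : K) * D.t) = (s : K)⁻¹ * (D.t * (s : K) * D.t) := h0
        have h3 : (s : K) * (s₀ : K)⁻¹ = D.t * ((s : K) * (s₀ : K)⁻¹) * D.t := by
          calc (s : K) * (s₀ : K)⁻¹
              = (s : K) * ((s₀ : K)⁻¹ * (D.t * (s₀ : K) * D.t)) * (D.t * (s₀ : K) * D.t)⁻¹ := by group
            _ = (s : K) * ((s : K)⁻¹ * (D.t * (s : K) * D.t)) * (D.t * (s₀ : K) * D.t)⁻¹ := by rw [h0']
            _ = D.t * (s : K) * (D.t * D.t⁻¹) * (s₀ : K)⁻¹ * D.t⁻¹ := by group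
            _ = D.t * ((s : K) * (s₀ : K)⁻¹) * D.t := by rw [mul_inv_cancel, D.t_inv]; group
        conv_lhs => rw [h3, mul_assoc, D.tt, mul_one]
      refine ⟨(⟨_, D.fixed_mem (mul_mem s.2 (inv_mem s₀.2)) hcomm⟩, r), ?_⟩
      show (s : K) = (s : K) * (s₀ : K)⁻¹ * (s₀ : K)
      rw [inv_mul_cancel_right]
    choose g hg using key
    refine (Nat.card_le_card_of_injective g fun x y h => Subtype.ext ?_).trans ?_
    · rw [hg x, hg y, h]
    · rw [Nat.card_prod, Nat.card_zpowers, D.c_ord]
  omega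

/-- Every element of `N` has the form `s⁻¹ t s t`. -/
theorem exists_psi {n : K} (hn : n ∈ D.N) : ∃ s ∈ D.S, D.psi s = n := by
  classical
  haveI : Fact (Nat.Prime 2) := ⟨Nat.prime_two⟩
  by_contra hno
  -- otherwise the abelianization of `T` has order at most four
  set X := ↥(D.T : Subgroup K)
  have hX : IsPGroup 2 X := D.T.2
  obtain ⟨a, ha⟩ := IsPGroup.iff_card.1 hX
  have hcardN : Nat.card D.N = Nat.card (commutator X) := by
    rw [← card_map_of_injective (D.T : Subgroup K).subtype_injective, commutator_def, map_commutator,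
      ← MonoidHom.range_eq_map, range_subtype]
    rfl
  have hlt : Nat.card (Set.range fun s : D.S => D.psi s) < Nat.card D.N := by
    show Nat.card (Set.range fun s : D.S => D.psi s) < Nat.card (D.N : Set K)
    rw [Nat.card_coe_set_eq, Nat.card_coe_set_eq]
    refine Set.ncard_lt_ncard ⟨?_, fun h => ?_⟩ (Set.toFinite _)
    · rintro _ ⟨s, rfl⟩; exact D.psi_mem s.2.1
    · obtain ⟨s, hs⟩ := h hn
      exact hno ⟨s, s.2, hs⟩
  have hlow := D.card_range_psi
  have hmul := (commutator X).card_mul_index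
  have hidx8 : (commutator X).index < 8 := by
    by_contra h8
    have h := Nat.mul_le_mul_left (Nat.card D.N) (not_lt.1 h8)
    rw [hcardN, hmul] at h
    rw [hcardN] at hlt
    change Nat.card X ≤ _ at hlow
    omega
  have hS8 := D.card_S
  have hSX : 2 * Nat.card D.S ≤ Nat.card X := by
    have : Function.Injective (fun p : Bool × D.S =>
        (if p.1 then ⟨p.2, p.2.2.1⟩ else ⟨D.t * p.2, mul_mem D.t_mem p.2.2.1⟩ : X)) := by
      rintro ⟨b, x⟩ ⟨b', y⟩ h
      have hv := congrArg (fun v : X => (v : K)) h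
      cases b <;> cases b' <;> simp only [Bool.false_eq_true, if_false, if_true] at hv
      · rw [Prod.mk.injEq]; exact ⟨rfl, Subtype.ext (mul_left_cancel hv)⟩
      · exact absurd (show D.t ∈ D.A by
          rw [show D.t = (y : K) * (x : K)⁻¹ by rw [← hv, mul_inv_cancel_right]]
          exact mul_mem y.2.2 (inv_mem x.2.2)) D.t_not
      · exact absurd (show D.t ∈ D.A by
          rw [show D.t = (x : K) * (y : K)⁻¹ by rw [hv, mul_inv_cancel_right]]
          exact mul_mem x.2.2 (inv_mem y.2.2)) D.t_not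
      · rw [Prod.mk.injEq]; exact ⟨rfl, Subtype.ext hv⟩
    have h := Nat.card_le_card_of_injective _ this
    rwa [Nat.card_prod, Nat.card_eq_fintype_card, Fintype.card_bool] at h
  obtain ⟨i, hi⟩ := (hX.index (commutator X))
  have hi2 : i ≤ 2 := by
    by_contra h
    have : 2 ^ 3 ≤ 2 ^ i := Nat.pow_le_pow_right two_pos (by omega)
    omega
  -- `t` and `z` are different involutions, so `T` is not cyclic
  have hncyc : ¬ IsCyclic X := by
    intro hc
    have h := cyclic_involution_eq (P := (D.T : Subgroup K)) (D.t_mem : D.t ∈ _) D.z_mem.1 D.tt D.zz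
      (fun h => by have := D.t_ord; rw [h, orderOf_one] at this; omega) D.z_ne
    exact D.t_not (h ▸ D.z_mem.2)
  rcases lt_or_eq_of_le hi2 with hi1 | rfl
  · -- a cyclic abelianization makes `T` cyclic
    haveI hcq : IsCyclic (X ⧸ commutator X) := by
      rcases Nat.lt_or_ge i 1 with h | h
      · obtain rfl : i = 0 := by omega
        haveI : Subsingleton (X ⧸ commutator X) := Finite.card_le_one_iff_subsingleton.1 (by
          rw [← Subgroup.index_eq_card, hi]; norm_num)
        exact isCyclic_of_subsingleton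
      · obtain rfl : i = 1 := by omega
        exact isCyclic_of_prime_card (p := 2) (by rw [← Subgroup.index_eq_card, hi, pow_one])
    obtain ⟨g, hg⟩ := IsCyclic.exists_generator (α := X ⧸ commutator X)
    obtain ⟨x, rfl⟩ := QuotientGroup.mk_surjective g
    have htop : zpowers x ⊔ frattini X = ⊤ := by
      rw [eq_top_iff]
      intro y _
      obtain ⟨k, hk⟩ := mem_zpowers_iff.1 (hg y)
      rw [← QuotientGroup.mk_zpow, QuotientGroup.eq] at hk
      rw [show y = x ^ k * ((x ^ k)⁻¹ * y) by rw [mul_inv_cancel_left]]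
      exact mul_mem (mem_sup_left (zpow_mem (mem_zpowers x) k))
        (mem_sup_right (CfsgLib.PGroups.commutator_le_frattini hX hk))
    have := frattini_nongenerating htop
    exact hncyc (isCyclic_iff_exists_zpowers_eq_top.2 ⟨x, this⟩)
  · -- maximal class
    have h4 : Nat.card (X ⧸ commutator X) = 4 := by rw [← Subgroup.index_eq_card, hi]; rfl
    have ha3 : 3 ≤ a := by
      by_contra h
      have : 2 ^ a ≤ 2 ^ 2 := Nat.pow_le_pow_right two_pos (by omega)
      omega
    obtain ⟨r, hr⟩ := CfsgLib.PGroups.exists_orderOf_eq_of_maximalClass ha3 ha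
      (CfsgLib.PGroups.maximalClass_of_index_commutator ha h4)
    set C := zpowers r with hC
    have hCi : C.index = 2 := by
      have h := card_mul_index C
      rw [Nat.card_zpowers, hr, ha, ← mul_pow_sub_one (show a ≠ 0 by omega) (2 : ℕ),
        mul_comm 2 (2 ^ (a - 1))] at h
      exact Nat.eq_of_mul_eq_mul_left (pow_pos two_pos _) h
    haveI : C.Normal := normal_of_index_eq_two hCi
    let tX : X := ⟨D.t, D.t_mem⟩
    let cX : X := ⟨D.c, D.c_memT⟩
    have htC : tX ∉ C := by
      intro h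
      haveI : IsCyclic (C.map (D.T : Subgroup K).subtype) :=
        isCyclic_of_surjective _ ((D.T : Subgroup K).subtype.subgroupMap_surjective C)
      have hz : D.z ∈ C.map (D.T : Subgroup K).subtype :=
        ⟨cX * cX, mul_self_mem_of_index_two hCi cX, rfl⟩
      have htz : D.t = D.z := cyclic_involution_eq (P := C.map (D.T : Subgroup K).subtype)
        ⟨tX, h, rfl⟩ hz D.tt D.zz
        (fun h1 : D.t = 1 => by have := D.t_ord; rw [h1, orderOf_one] at this; omega) D.z_ne
      exact D.t_not (htz ▸ D.z_mem.2)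
    have hct : cX * tX = tX * cX := Subtype.ext D.c_comm
    obtain ⟨c₀, hc₀C, hc₀t, hc₀z⟩ :
        ∃ c₀ : X, c₀ ∈ C ∧ c₀ * tX = tX * c₀ ∧ ((c₀ * c₀ : X) : K) = D.z := by
      by_cases h : cX ∈ C
      · exact ⟨cX, h, hct, rfl⟩
      · refine ⟨cX * tX, (mul_mem_iff_of_index_two hCi).2 (iff_of_false h htC), ?_, ?_⟩
        · rw [← mul_assoc, ← hct]
        · show D.c * D.t * (D.c * D.t) = D.c * D.c
          rw [mul_assoc, ← mul_assoc D.t, ← D.c_comm, mul_assoc D.c D.t D.t, D.tt, mul_one]
    have h2ne : c₀ * c₀ ≠ 1 := fun h => D.z_ne (by rw [← hc₀z, h]; rfl)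
    obtain ⟨i, rfl⟩ := mem_zpowers_iff.1 hc₀C
    obtain ⟨e, he⟩ := mem_zpowers_iff.1
      (Subgroup.Normal.conj_mem (inferInstance : C.Normal) r (mem_zpowers r) tX)
    have hep : ∀ k : ℤ, tX * r ^ k * tX⁻¹ = r ^ (e * k) := fun k => by
      rw [← conj_zpow, ← he, ← zpow_mul]
    have hfix : r ^ (i * (e - 1)) = 1 := by
      have h := hep i
      rw [← hc₀t, mul_inv_cancel_right] at h
      rw [mul_sub, mul_one, zpow_sub, mul_comm i e, ← h, mul_inv_cancel]
    obtain ⟨h, heh⟩ : ∃ h : ℤ, e = 4 * h + 1 := by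
      rcases Int.even_or_odd' e with ⟨q, rfl | rfl⟩
      · exfalso
        have hri := eq_one_of_odd_zpow hX (show Odd (2 * q - 1) from ⟨q - 1, by ring⟩)
          (x := r ^ i) (by rw [← zpow_mul]; exact hfix)
        exact h2ne (by rw [hri, one_mul])
      · rcases Int.even_or_odd' q with ⟨h, rfl | rfl⟩
        · exact ⟨h, by ring⟩
        · exfalso
          refine h2ne (eq_one_of_odd_zpow hX (show Odd (2 * h + 1) from ⟨h, rfl⟩) ?_)
          rw [← zpow_add, ← zpow_mul]
          rw [show i * (2 * (2 * h + 1) + 1 - 1) = (i + i) * (2 * h + 1) by ring] at hfix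
          exact hfix
    set w := r ^ (e - 1) with hw
    have hw2 : w * w = 1 := by
      refine eq_one_of_odd_zpow hX (show Odd (2 * h + 1) from ⟨h, rfl⟩) ?_
      have htt : tX * tX = 1 := Subtype.ext D.tt
      have htti : tX⁻¹ = tX := inv_eq_of_mul_eq_one_right htt
      have h1 : r ^ (e * e) = r := by
        rw [← hep e, he, htti, show tX * (tX * r * tX) * tX = tX * tX * r * (tX * tX) by group,
          htt, one_mul, mul_one]
      rw [hw, ← zpow_add, ← zpow_mul,
        show (e - 1 + (e - 1)) * (2 * h + 1) = e * e - 1 by rw [heh]; ring, zpow_sub, h1, zpow_one,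
        mul_inv_cancel]
    have hwt : tX * w = w * tX := by
      have h1 := hep (e - 1)
      rw [show e * (e - 1) = 4 * h * (e - 1) + (e - 1) by rw [heh]; ring, zpow_add, mul_comm (4 * h),
        zpow_mul, ← hw, show w ^ (4 * h) = 1 by
          rw [show (4 : ℤ) * h = 2 * (2 * h) by ring, zpow_mul, zpow_two, hw2, one_zpow],
        one_mul] at h1
      calc tX * w = tX * w * tX⁻¹ * tX := by group
        _ = w * tX := by rw [h1]
    have hcov : ∀ y : X, ∃ k : ℤ, y = r ^ k ∨ y = r ^ k * tX := by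
      intro y
      by_cases hy : y ∈ C
      · obtain ⟨k, hk⟩ := mem_zpowers_iff.1 hy
        exact ⟨k, Or.inl hk.symm⟩
      · obtain ⟨k, hk⟩ := mem_zpowers_iff.1
          ((mul_mem_iff_of_index_two hCi).2 (iff_of_false hy (fun h => htC (inv_mem_iff.1 h)))
            : y * tX⁻¹ ∈ C)
        exact ⟨k, Or.inr (by rw [hk, inv_mul_cancel_right])⟩
    have hwc : ∀ y : X, y * w = w * y := by
      intro y
      have hrk : ∀ k : ℤ, r ^ k * w = w * r ^ k := fun k => zpow_mul_comm r k (e - 1)
      obtain ⟨k, rfl | rfl⟩ := hcov y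
      · exact hrk k
      · rw [mul_assoc, hwt, ← mul_assoc, hrk, mul_assoc]
    haveI : (zpowers w).Normal := ⟨fun x hx g => by
      obtain ⟨k, rfl⟩ := mem_zpowers_iff.1 hx
      rw [(Commute.zpow_right (show Commute g w from hwc g) k).eq, mul_inv_cancel_right]
      exact zpow_mem (mem_zpowers w) k⟩
    have hle : commutator X ≤ zpowers w := by
      rw [_root_.commutator_def, commutator_le]
      intro y₁ _ y₂ _
      have hrt : ((r : X) : X ⧸ zpowers w) * (tX : X) = ((tX : X) : X ⧸ zpowers w) * (r : X) := by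
        have h1 : tX * r = r * w * tX := by
          have h2 : r * w = r ^ e := by
            show r * r ^ (e - 1) = r ^ e
            rw [← zpow_one_add]; congr 1; ring
          rw [h2, he]; group
        have h3 := congrArg (fun v : X => (v : X ⧸ zpowers w)) h1
        simp only [QuotientGroup.mk_mul, (QuotientGroup.eq_one_iff w).2 (mem_zpowers w), mul_one] at h3
        exact h3.symm
      have hcomm : ∀ a b : X, Commute (a : X ⧸ zpowers w) (b : X ⧸ zpowers w) := by
        intro a b
        have h1 : ∀ k l : ℤ, Commute ((r : X ⧸ zpowers w) ^ k) ((r : X ⧸ zpowers w) ^ l) :=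
          fun k l => (Commute.refl _).zpow_zpow k l
        have h2 : ∀ k : ℤ, Commute ((r : X ⧸ zpowers w) ^ k) (tX : X ⧸ zpowers w) :=
          fun k => (show Commute (r : X ⧸ zpowers w) (tX : X ⧸ zpowers w) from hrt).zpow_left k
        obtain ⟨k, rfl | rfl⟩ := hcov a <;> obtain ⟨l, rfl | rfl⟩ := hcov b <;>
          simp only [QuotientGroup.mk_mul, QuotientGroup.mk_zpow]
        · exact h1 k l
        · exact (h1 k l).mul_right (h2 k)
        · exact (h1 k l).mul_left ((h2 l).symm)
        · exact ((h1 k l).mul_right (h2 k)).mul_left ((h2 l).symm.mul_right (Commute.refl _))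
      rw [← QuotientGroup.eq_one_iff, commutatorElement_def]
      simp only [QuotientGroup.mk_mul, QuotientGroup.mk_inv]
      rw [(hcomm y₁ y₂).eq]; group
    have h2c : Nat.card (zpowers w) ≤ 2 := by
      rw [Nat.card_zpowers]
      exact Nat.le_of_dvd two_pos (orderOf_dvd_of_pow_eq_one (by rw [pow_two, hw2]))
    have h2N := (Nat.card_le_card_of_injective _ (inclusion_injective hle)).trans h2c
    have := Nat.mul_le_mul_right (commutator X).index h2N
    rw [hmul, hi] at this
    omega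

end Setup

end CfsgLib.SemiCyc4
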