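import Cfsg.Agent.Lib.Transfer.TransferFixed
import Mathlib

/-!
Sign transfer at an involution: only the cosets fixed by a 2-group centralizing it matter.
-/

set_option autoImplicit false
set_option linter.style.haveILetI false

namespace CfsgLib.SemiCyc4

open Subgroup MulAction

variable {K : Type*} [Group K] [Finite K]

theorem prod_units_eq {α : Type*} [Fintype α] (f : α → ℤˣ) :
    ∏ a, f a = (-1) ^ Nat.card {a : α // f a = -1} := by
  classical
  rw [Nat.card_eq_fintype_card, Fintype.card_subtype, ← Finset.prod_const]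
  rw [Finset.prod_filter]
  refine Finset.prod_congr rfl fun a _ => ?_
  rcases Int.units_eq_one_or (f a) with h | h <;> simp [h]

/-- The transfer of a sign character at an involution `w` is decided by the conjugates `g⁻¹ w g`
with `g⁻¹ Q g` inside the subgroup, for a 2-group `Q` centralizing `w`. -/
theorem transfer_eq_of_fixed (T : Sylow 2 K) (χ : (T : Subgroup K) →* ℤˣ) {w : K}
    (hw : orderOf w = 2) (Q : Subgroup K) (hQ : IsPGroup 2 Q) (hQw : ∀ q ∈ Q, q * w = w * q)
    (hwQ : w ∈ Q) (ε : ℤˣ)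
    (h : ∀ (g : K) (hg : g⁻¹ * w * g ∈ (T : Subgroup K)),
      (∀ q ∈ Q, g⁻¹ * q * g ∈ (T : Subgroup K)) → χ ⟨_, hg⟩ = ε) :
    MonoidHom.transfer χ w = ε := by
  classical
  haveI : Fact (Nat.Prime 2) := ⟨Nat.prime_two⟩
  letI : Fintype (K ⧸ (T : Subgroup K)) := Fintype.ofFinite _
  rw [CfsgLib.Transfer.transfer_eq_prod_fixedVal χ w (fun k hk hdvd g hg => by
    have h2 : k = 2 := ((Nat.dvd_prime Nat.prime_two).1 (hw ▸ hdvd)).resolve_left (by omega)
    have hwk : w ^ k = 1 := by rw [h2, ← hw, pow_orderOf_eq_one]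
    have : (⟨g⁻¹ * w ^ k * g, hg⟩ : (T : Subgroup K)) = 1 :=
      Subtype.ext (show g⁻¹ * w ^ k * g = 1 by rw [hwk, mul_one, inv_mul_cancel])
    rw [this, map_one]), prod_units_eq]
  -- `Q` permutes the points of value `-1`
  set f := fun q : K ⧸ (T : Subgroup K) => CfsgLib.Transfer.fixedVal χ w q with hf
  have hinv : ∀ a ∈ Q, ∀ q, f (a • q) = f q := by
    intro a ha q
    have haw : a⁻¹ * w * a = w := by rw [mul_assoc, ← hQw a ha, ← mul_assoc, inv_mul_cancel, one_mul]
    induction q using QuotientGroup.induction_on with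
    | _ g =>
    have e : (a * g)⁻¹ * w * (a * g) = g⁻¹ * w * g := by
      rw [mul_inv_rev, show g⁻¹ * a⁻¹ * w * (a * g) = g⁻¹ * (a⁻¹ * w * a) * g by group, haw]
    rw [MulAction.Quotient.smul_coe, smul_eq_mul]
    by_cases hm : g⁻¹ * w * g ∈ (T : Subgroup K)
    · have hm' : (a * g)⁻¹ * w * (a * g) ∈ (T : Subgroup K) := by rwa [e]
      show CfsgLib.Transfer.fixedVal χ w _ = CfsgLib.Transfer.fixedVal χ w _
      rw [CfsgLib.Transfer.fixedVal_of_mem χ w hm', CfsgLib.Transfer.fixedVal_of_mem χ w hm]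
      exact congrArg χ (Subtype.ext e)
    · have hm' : ¬ (a * g)⁻¹ * w * (a * g) ∈ (T : Subgroup K) := by rwa [e]
      show CfsgLib.Transfer.fixedVal χ w _ = CfsgLib.Transfer.fixedVal χ w _
      rw [CfsgLib.Transfer.fixedVal_of_ne χ w (fun h' => hm ((CfsgLib.Transfer.mem_iff_smul_eq w g).2 h')),
        CfsgLib.Transfer.fixedVal_of_ne χ w
          (fun h' => hm' ((CfsgLib.Transfer.mem_iff_smul_eq w (a * g)).2 h'))]
  letI actQ : MulAction Q {q : K ⧸ (T : Subgroup K) // f q = -1} :=
    { smul := fun a q => ⟨(a : K) • q.1, by rw [hinv a a.2]; exact q.2⟩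
      one_smul := fun q => Subtype.ext (one_smul K q.1)
      mul_smul := fun a b q => Subtype.ext (mul_smul (a : K) (b : K) q.1) }
  have hmod := hQ.card_modEq_card_fixedPoints {q : K ⧸ (T : Subgroup K) // f q = -1}
  -- on `Q`-fixed points the value is `ε`
  have hfixval : ∀ q : K ⧸ (T : Subgroup K), (∀ a ∈ Q, a • q = q) → f q = ε := by
    intro q hq
    induction q using QuotientGroup.induction_on with
    | _ g =>
    have hm : ∀ a ∈ Q, g⁻¹ * a * g ∈ (T : Subgroup K) := fun a ha =>
      (CfsgLib.Transfer.mem_iff_smul_eq a g).2 (hq a ha)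
    show CfsgLib.Transfer.fixedVal χ w _ = ε
    rw [CfsgLib.Transfer.fixedVal_of_mem χ w (hm w hwQ)]
    exact h g _ hm
  rcases Int.units_eq_one_or ε with rfl | rfl
  · have h0 : Nat.card (fixedPoints Q {q : K ⧸ (T : Subgroup K) // f q = -1}) = 0 := by
      rw [Nat.card_eq_zero]
      left
      refine ⟨fun ⟨⟨q, hq⟩, hfx⟩ => ?_⟩
      have h1 := hfixval q fun a ha => congrArg Subtype.val (hfx ⟨a, ha⟩)
      rw [hq] at h1
      exact absurd h1 (by decide)
    rw [h0] at hmod
    exact Even.neg_one_pow (even_iff_two_dvd.2 (Nat.modEq_zero_iff_dvd.1 hmod))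
  · have hQ' := hQ.card_modEq_card_fixedPoints (K ⧸ (T : Subgroup K))
    have heq : Nat.card (fixedPoints Q {q : K ⧸ (T : Subgroup K) // f q = -1}) =
        Nat.card (fixedPoints Q (K ⧸ (T : Subgroup K))) := by
      refine Nat.card_congr
        { toFun := fun x => ⟨x.1.1, fun a => congrArg Subtype.val (x.2 a)⟩
          invFun := fun x => ⟨⟨x.1, hfixval x.1 fun a ha => x.2 ⟨a, ha⟩⟩,
            fun a => Subtype.ext (x.2 a)⟩
          left_inv := fun x => rfl
          right_inv := fun x => rfl }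
    rw [heq] at hmod
    have hodd : Odd (T : Subgroup K).index :=
      Nat.not_even_iff_odd.1 fun he => T.not_dvd_index (even_iff_two_dvd.1 he)
    refine Odd.neg_one_pow ?_
    have h3 : Nat.card {q : K ⧸ (T : Subgroup K) // f q = -1} % 2 = (T : Subgroup K).index % 2 :=
      hmod.trans hQ'.symm
    rw [Nat.odd_iff] at hodd ⊢
    show Nat.card {q : K ⧸ (T : Subgroup K) // f q = -1} % 2 = 1
    exact h3.trans hodd

/-- In a group with normal subgroup `N` and quotient of exponent two, a subgroup above `N` not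
containing `x` is killed by a sign character which is nontrivial at `x`. -/
theorem exists_sign_char {X : Type*} [Group X] [Finite X] (N : Subgroup X) [N.Normal]
    (hsq : ∀ a : X, a * a ∈ N) (H₀ : Subgroup X) (hN : N ≤ H₀) {x : X} (hx : x ∉ H₀) :
    ∃ χ : X →* ℤˣ, (∀ a ∈ H₀, χ a = 1) ∧ χ x = -1 := by
  classical
  obtain ⟨H, hH0, hmax⟩ := (Set.toFinite {H : Subgroup X | H₀ ≤ H ∧ x ∉ H}).exists_le_maximal
    (a := H₀) ⟨le_rfl, hx⟩
  obtain ⟨⟨hH, hxH⟩, hmax⟩ := hmax
  have hcomm : ∀ a b : X, a * b * a⁻¹ * b⁻¹ ∈ N := by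
    intro a b
    have e : a * b * a⁻¹ * b⁻¹ = (a * a) * (a⁻¹ * b * (a⁻¹ * b)) * (b * b)⁻¹ := by group
    rw [e]
    exact mul_mem (mul_mem (hsq a) (hsq _)) (inv_mem (hsq b))
  have hNH : N ≤ H := hN.trans hH
  have hnorm : ∀ (a : X), ∀ b ∈ H, a * b * a⁻¹ ∈ H := fun a b hb => by
    have := mul_mem (hNH (hcomm a b)) hb
    rwa [inv_mul_cancel_right] at this
  haveI : H.Normal := ⟨fun b hb a => hnorm a b hb⟩
  have hidx : H.index = 2 := by
    rw [Subgroup.index_eq_two_iff]
    refine ⟨x, fun y => ?_⟩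
    by_cases hy : y ∈ H
    · refine Or.inr ⟨hy, fun h => hxH ?_⟩
      have := mul_mem (inv_mem hy) h
      rwa [inv_mul_cancel_left] at this
    · refine Or.inl ⟨?_, hy⟩
      let H' : Subgroup X :=
        { carrier := {a | a ∈ H ∨ a * y ∈ H}
          one_mem' := Or.inl H.one_mem
          mul_mem' := fun {a b} ha hb => by
            rcases ha with ha | ha <;> rcases hb with hb | hb
            · exact Or.inl (mul_mem ha hb)
            · exact Or.inr (by rw [mul_assoc]; exact mul_mem ha hb)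
            · refine Or.inr ?_
              rw [show a * b * y = a * y * (y⁻¹ * b * y⁻¹⁻¹) by group]
              exact mul_mem ha (hnorm _ _ hb)
            · refine Or.inl ?_
              rw [show a * b = a * y * (y⁻¹ * (b * y) * y⁻¹⁻¹) * (y * y)⁻¹ by group]
              exact mul_mem (mul_mem ha (hnorm _ _ hb)) (inv_mem (hNH (hsq y)))
          inv_mem' := fun {a} ha => by
            rcases ha with ha | ha
            · exact Or.inl (inv_mem ha)
            · refine Or.inr ?_
              rw [show a⁻¹ * y = y * (a * y)⁻¹ * y⁻¹ * (y * y) by group]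
              exact mul_mem (hnorm _ _ (inv_mem ha)) (hNH (hsq y)) }
      have hy' : y ∈ H' := Or.inr (hNH (hsq y))
      have hle : H ≤ H' := fun a ha => Or.inl ha
      by_contra hyx
      have hxH' : x ∉ H' := by
        rintro (h | h)
        · exact hxH h
        · refine hyx ?_
          have h1 := hnorm y _ h
          rwa [show y * (x * y) * y⁻¹ = y * x by group] at h1
      exact hy (hmax ⟨hH.trans hle, hxH'⟩ hle hy')
  refine ⟨{ toFun := fun a => if a ∈ H then 1 else -1, map_one' := if_pos H.one_mem,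
            map_mul' := fun a b => ?_ }, fun a ha => if_pos (hH ha), if_neg hxH⟩
  have h2 := Subgroup.mul_mem_iff_of_index_two hidx (a := a) (b := b)
  by_cases ha : a ∈ H <;> by_cases hb : b ∈ H <;> simp [ha, hb, h2]

end CfsgLib.SemiCyc4
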