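import Cfsg.Agent.Lib.Involutions.CyclicFourFixed.Shape
import Cfsg.Agent.Lib.Involutions.CyclicFourFixed.Transfer
import Cfsg.Agent.Lib.Transfer.Fusion

/-!
The case in which every square of `S` lies in `N`: then `S` has no involution outside `N`.
-/

set_option autoImplicit false
set_option linter.style.haveILetI false

namespace CfsgLib.SemiCyc4

open Subgroup

/-- An element of `N ⊔ ⟨a⟩` is in `N` or becomes one after multiplication by `a`, if `a * a ∈ N`. -/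
theorem mem_sup_zpowers_cases {X : Type*} [Group X] (N : Subgroup X) [N.Normal] {a y : X}
    (ha : a * a ∈ N) (hy : y ∈ N ⊔ zpowers a) : y ∈ N ∨ a * y ∈ N := by
  obtain ⟨n, hn, b, hb, rfl⟩ := mem_sup_of_normal_left.1 hy
  obtain ⟨i, rfl⟩ := mem_zpowers_iff.1 hb
  rcases Int.even_or_odd' i with ⟨q, rfl | rfl⟩
  · exact Or.inl (mul_mem hn (by rw [zpow_mul, zpow_two]; exact zpow_mem ha q))
  · refine Or.inr ?_
    rw [show a * (n * a ^ (2 * q + 1)) = a * n * a⁻¹ * a ^ (2 * (q + 1)) by group]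
    exact mul_mem (Normal.conj_mem inferInstance n hn a) (by rw [zpow_mul, zpow_two]; exact zpow_mem ha _)

namespace Setup

variable {K : Type*} [Group K] [Finite K] (D : Setup K)

theorem T_sq (hsq : ∀ x ∈ D.S, x * x ∈ D.N) {y : K} (hy : y ∈ (D.T : Subgroup K)) :
    y * y ∈ D.N := by
  rcases D.cover_T hy with h | ⟨s, hs, rfl⟩
  · exact hsq y h
  · rw [show D.t * s * (D.t * s) = s * (s⁻¹ * (D.t * s * D.t)) * s⁻¹ * (s * s) by group]
    exact mul_mem (D.conj_mem_N hs.1 (D.psi_mem hs.1)) (hsq s hs)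

theorem T_hom (hsq : ∀ x ∈ D.S, x * x ∈ D.N) (H₀ : Subgroup ↥(D.T : Subgroup K))
    (hN : D.N.subgroupOf (D.T : Subgroup K) ≤ H₀) {x : ↥(D.T : Subgroup K)} (hx : x ∉ H₀) :
    ∃ χ : ↥(D.T : Subgroup K) →* ℤˣ, (∀ a ∈ H₀, χ a = 1) ∧ χ x = -1 := by
  haveI : (D.N.subgroupOf (D.T : Subgroup K)).Normal :=
    ⟨fun n hn g => mem_subgroupOf.2 (D.conj_mem_N g.2 (mem_subgroupOf.1 hn))⟩
  exact exists_sign_char _ (fun a => mem_subgroupOf.2 (D.T_sq hsq a.2)) H₀ hN hx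

theorem inverts {v : K} (hv : v ∈ D.S) (hvL : v ∉ D.L) (hv2 : v * v = 1) {n : K} (hn : n ∈ D.N) :
    v * n * v⁻¹ = n⁻¹ := by
  have hne : ¬ D.Sq (D.psi v) := fun h => hvL ⟨hv, h⟩
  obtain ⟨i, rfl⟩ := D.gen_of_not_sq (D.psi_mem hv.1) hne n hn
  have hvi : v⁻¹ = v := inv_eq_of_mul_eq_one_right hv2
  have h1 : v * D.psi v * v⁻¹ = (D.psi v)⁻¹ := by
    refine eq_inv_of_mul_eq_one_left ?_
    show v * (v⁻¹ * (D.t * v * D.t)) * v⁻¹ * (v⁻¹ * (D.t * v * D.t)) = 1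
    rw [hvi]
    simp only [mul_assoc, ← mul_assoc v v, hv2, one_mul, D.tt_cancel]
    exact D.tt
  rw [← conj_zpow, h1, inv_zpow]

theorem S_generated {f : K} (hf : f ∈ D.S) (hf' : f ∉ D.L) {w : K}
    (hN : ∀ n ∈ D.N, w * n = n * w) (hc : w * D.c = D.c * w) (hwf : w * f = f * w) :
    ∀ x ∈ D.S, w * x = x * w := by
  have hL : ∀ x ∈ D.L, Commute w x := by
    intro x hx
    obtain ⟨n, hn, rfl | rfl⟩ := D.L_cases hx
    · exact hN _ hn
    · exact (show Commute w D.c from hc).mul_right (hN n hn)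
  intro x hx
  by_cases h : x ∈ D.L
  · exact hL x h
  · have := (show Commute w f from hwf).mul_right (hL _ (D.inv_mul_mem_L hf hf' hx h))
    rwa [mul_inv_cancel_left] at this

theorem central_same_coset {w w' : K} (hw : w ∈ D.S) (hw2 : w * w = 1) (hwN : w ∉ D.N)
    (hwc : ∀ x ∈ D.S, w * x = x * w) (hw' : w' ∈ D.S) (hw'2 : w' * w' = 1) (hw'N : w' ∉ D.N)
    (hw'c : ∀ x ∈ D.S, w' * x = x * w') : w * w' ∈ D.N := by
  by_contra hne
  -- a central involution in `L \ N` together with one outside `L` is absurd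
  have key : ∀ a b : K, a ∈ D.S → a * a = 1 → a ∉ D.L → (∀ x ∈ D.S, a * x = x * a) →
      b ∈ D.L → b * b = 1 → b ∉ D.N → (∀ x ∈ D.S, b * x = x * b) → False := by
    intro a b ha ha2 haL hac hbL hb2 hbN hbc
    have hexp : ∀ n ∈ D.N, n⁻¹ = n := fun n hn => by
      rw [← D.inverts ha haL ha2 hn, hac n (D.N_le_S hn), mul_inv_cancel_right]
    obtain ⟨n, hn, rfl | rfl⟩ := D.L_cases hbL
    · exact hbN hn
    · refine D.c_sq_ne ?_
      have h1 : D.c * n * n⁻¹ = n⁻¹ * (D.c * n) :=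
        hbc n⁻¹ (inv_mem (D.N_le_S hn))
      rw [mul_inv_cancel_right, hexp n hn] at h1
      have h2 : n * n = 1 := by nth_rw 1 [← hexp n hn]; rw [inv_mul_cancel]
      calc D.c * D.c = D.c * (n * (D.c * n)) := by rw [← h1]
        _ = D.c * n * (D.c * n) := by rw [← mul_assoc]
        _ = 1 := hb2
  have hcomm : w * w' = w' * w := hwc w' hw'
  have hprod : w * w' * (w * w') = 1 := by
    rw [show w * w' * (w * w') = w * (w' * w) * w' by group, ← hcomm,
      show w * (w * w') * w' = w * w * (w' * w') by group, hw2, hw'2, one_mul]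
  have hprodc : ∀ x ∈ D.S, w * w' * x = x * (w * w') := fun x hx => by
    rw [mul_assoc, hw'c x hx, ← mul_assoc, hwc x hx, mul_assoc]
  by_cases h : w ∈ D.L
  · by_cases h' : w' ∈ D.L
    · obtain ⟨n, hn, rfl | rfl⟩ := D.L_cases h
      · exact hwN hn
      · obtain ⟨n', hn', rfl | rfl⟩ := D.L_cases h'
        · exact hw'N hn'
        · refine hne ?_
          rw [show D.c * n * (D.c * n') = D.c * n * D.c⁻¹ * (D.c * D.c) * n' by group]
          exact mul_mem (mul_mem (D.conj_mem_N D.c_memT hn) D.z_mem_N) hn'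
    · exact key w' w hw' hw'2 h' hw'c h hw2 hwN hwc
  · by_cases h' : w' ∈ D.L
    · exact key w w' hw hw2 h hwc h' hw'2 hw'N hw'c
    · exact key w (w * w') hw hw2 h hwc (D.mul_mem_L hw h hw' h') hprod hne hprodc

theorem central_excluded (hsq : ∀ x ∈ D.S, x * x ∈ D.N) {w : K} (hw : w ∈ D.S) (hw2 : w * w = 1)
    (hwN : w ∉ D.N) (hwc : ∀ x ∈ D.S, w * x = x * w) : False := by
  obtain ⟨χ, hχ1, hχw⟩ := D.T_hom hsq (D.N.subgroupOf _) le_rfl (x := ⟨w, hw.1⟩)
    (fun h => hwN (mem_subgroupOf.1 h))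
  have hw1 : w ≠ 1 := fun h => hwN (h ▸ one_mem _)
  have ho : orderOf w = 2 := orderOf_eq_prime (by rw [pow_two, hw2]) hw1
  have hV := transfer_eq_of_fixed D.T χ ho D.S D.isPGroup_S (fun q hq => (hwc q hq).symm) hw (-1) ?_
  · rw [D.A_hom_trivial _ hw.2] at hV
    exact absurd hV (by decide)
  intro g hg hgS
  have hS : ∀ x ∈ D.S, g⁻¹ * x * g ∈ D.S := fun x hx => ⟨hgS x hx, D.normal.conj_mem' x hx.2 g⟩
  have hsurj : ∀ y ∈ D.S, g * y * g⁻¹ ∈ D.S := by
    intro y hy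
    have hle : D.S.map (MulAut.conj g⁻¹).toMonoidHom ≤ D.S := by
      rintro _ ⟨x, hx, rfl⟩
      simpa using hS x hx
    have heq := Subgroup.eq_of_le_of_card_ge hle
      (by rw [card_map_of_injective (f := (MulAut.conj g⁻¹).toMonoidHom) (MulAut.conj g⁻¹).injective])
    rw [← heq] at hy
    obtain ⟨x, hx, rfl⟩ := hy
    simpa [mul_assoc] using hx
  set w' := g⁻¹ * w * g with hw'
  have hw'S : w' ∈ D.S := hS w hw
  have hw'2 : w' * w' = 1 := by
    rw [hw', show g⁻¹ * w * g * (g⁻¹ * w * g) = g⁻¹ * (w * w) * g by group, hw2, mul_one,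
      inv_mul_cancel]
  have hw'1 : w' ≠ 1 := fun h => hw1 (by
    have : g * w' * g⁻¹ = w := by rw [hw']; group
    rw [← this, h, mul_one, mul_inv_cancel])
  have hw'c : ∀ x ∈ D.S, w' * x = x * w' := by
    intro x hx
    have h := hwc _ (hsurj x hx)
    calc w' * x = g⁻¹ * (w * (g * x * g⁻¹)) * g := by rw [hw']; group
      _ = g⁻¹ * (g * x * g⁻¹ * w) * g := by rw [h]
      _ = x * w' := by rw [hw']; group
  have hw'N : w' ∉ D.N := by
    intro h
    have hwz : w = g * D.z * g⁻¹ := by rw [← D.N_invol h hw'2 hw'1, hw']; group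
    have hc' := hsurj D.c D.c_mem
    have h3 : g * D.c * g⁻¹ * (g * D.c * g⁻¹) = g * D.z * g⁻¹ := by
      show _ = g * (D.c * D.c) * g⁻¹
      group
    have h4 := hsq _ hc'
    rw [h3, ← hwz] at h4
    exact hwN h4
  have hmem := D.central_same_coset hw hw2 hwN hwc hw'S hw'2 hw'N hw'c
  have h5 := hχ1 (⟨w, hw.1⟩ * ⟨w', hw'S.1⟩) (mem_subgroupOf.2 hmem)
  rw [map_mul, hχw, neg_one_mul, neg_eq_iff_eq_neg] at h5
  exact h5

theorem three_cosets (hsq : ∀ x ∈ D.S, x * x ∈ D.N) {u v v' : K} (hu : u ∈ D.L) (hu2 : u * u = 1)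
    (huN : u ∉ D.N) (hv : v ∈ D.S) (hvL : v ∉ D.L) (hv2 : v * v = 1) (hv' : v' ∈ D.S)
    (hv'L : v' ∉ D.L) (hv'2 : v' * v' = 1) (hne : v⁻¹ * v' ∉ D.N) : False := by
  obtain ⟨n₁, hn₁, rfl | rfl⟩ := D.L_cases hu
  · exact huN hn₁
  obtain ⟨n₂, hn₂, h | h⟩ := D.L_cases (D.inv_mul_mem_L hv hvL hv' hv'L)
  · exact hne (h ▸ hn₂)
  set u := D.c * n₁ with hudef
  set x := n₁⁻¹ * n₂ with hxdef
  have hx : x ∈ D.N := mul_mem (inv_mem hn₁) hn₂
  have hv'eq : v' = v * u * x := by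
    rw [hudef, hxdef, show v * (D.c * n₁) * (n₁⁻¹ * n₂) = v * (D.c * n₂) by group, ← h,
      mul_inv_cancel_left]
  have huS : u ∈ D.S := D.L_le_S hu
  have huc : ∀ n ∈ D.N, u * n * u⁻¹ = n := by
    intro n hn
    have h1 := D.inverts hv' hv'L hv'2 hn
    rw [← D.inverts hv hvL hv2 hn, hv'eq,
      show v * u * x * n * (v * u * x)⁻¹ = v * (u * (x * n * x⁻¹) * u⁻¹) * v⁻¹ by group,
      D.N_comm hx hn, mul_inv_cancel_right] at h1
    exact mul_left_cancel (mul_right_cancel h1)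
  have huN' : ∀ n ∈ D.N, u * n = n * u := fun n hn => by
    calc u * n = u * n * u⁻¹ * u := by group
      _ = n * u := by rw [huc n hn]
  have hui : u⁻¹ = u := inv_eq_of_mul_eq_one_right hu2
  have hvu : v * u * (v * u) = 1 := by
    have h1 : (v * u)⁻¹ * x * (v * u) = x⁻¹ := by
      have h2 := D.inverts hv hvL hv2 hx
      rw [inv_eq_of_mul_eq_one_right hv2] at h2
      rw [mul_inv_rev, inv_eq_of_mul_eq_one_right hv2, hui,
        show u * v * x * (v * u) = u * (v * x * v) * u by group, h2, huN' _ (inv_mem hx), mul_assoc,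
        hu2, mul_one]
    rw [hv'eq, show v * u * x * (v * u * x) = v * u * (v * u) * ((v * u)⁻¹ * x * (v * u)) * x by group,
      h1, inv_mul_cancel_right] at hv'2
    exact hv'2
  have huv : u * v = v * u := by
    calc u * v = v * v * (u * v) * (u * u) := by rw [hv2, hu2, one_mul, mul_one]
      _ = v * (v * u * (v * u)) * u := by group
      _ = v * u := by rw [hvu, mul_one]
  refine D.central_excluded hsq huS hu2 huN (D.S_generated hv hvL huN' ?_ huv)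
  have hcu : D.c = u * n₁⁻¹ := by rw [hudef, mul_inv_cancel_right]
  have h1 := huN' _ (inv_mem hn₁)
  calc u * D.c = u * (u * n₁⁻¹) := congrArg (u * ·) hcu
    _ = u * (n₁⁻¹ * u) := congrArg (u * ·) h1
    _ = u * n₁⁻¹ * u := (mul_assoc _ _ _).symm
    _ = D.c * u := congrArg (· * u) hcu.symm

theorem false_of_not_fused (hsq : ∀ x ∈ D.S, x * x ∈ D.N)
    (hiso : ∀ a ∈ D.S, a * a = 1 → (∃ g : K, g * D.z * g⁻¹ = a) → a = D.z)
    {u₀ : K} (hu₀ : u₀ ∈ D.S) (hu₀2 : u₀ * u₀ = 1) (hu₀N : u₀ ∉ D.N) : False := by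
  haveI : (D.N.subgroupOf (D.T : Subgroup K)).Normal :=
    ⟨fun n hn g => mem_subgroupOf.2 (D.conj_mem_N g.2 (mem_subgroupOf.1 hn))⟩
  -- a character which is `-1` on all involutions of `S` outside `N`
  obtain ⟨χ, hχ⟩ : ∃ χ : ↥(D.T : Subgroup K) →* ℤˣ, ∀ (a : K) (ha : a ∈ D.S), a * a = 1 →
      a ∉ D.N → χ ⟨a, ha.1⟩ = -1 := by
    by_cases hin : ∃ u, u ∈ D.L ∧ u * u = 1 ∧ u ∉ D.N
    · obtain ⟨u, huL, hu2, huN⟩ := hin
      have hcos : ∀ a ∈ D.L, a ∉ D.N → u * a ∈ D.N := by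
        intro a ha haN
        obtain ⟨n, hn, rfl | rfl⟩ := D.L_cases huL
        · exact absurd hn huN
        obtain ⟨n', hn', rfl | rfl⟩ := D.L_cases ha
        · exact absurd hn' haN
        rw [show D.c * n * (D.c * n') = D.c * n * D.c⁻¹ * (D.c * D.c) * n' by group]
        exact mul_mem (mul_mem (D.conj_mem_N D.c_memT hn) D.z_mem_N) hn'
      by_cases hout : ∃ v, v ∈ D.S ∧ v ∉ D.L ∧ v * v = 1
      · obtain ⟨v, hv, hvL, hv2⟩ := hout
        set uv : ↥(D.T : Subgroup K) := ⟨u * v, mul_mem (D.L_le_S huL).1 hv.1⟩ with huv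
        have hnot : (⟨u, (D.L_le_S huL).1⟩ : ↥(D.T : Subgroup K)) ∉
            D.N.subgroupOf _ ⊔ zpowers uv := by
          intro h
          rcases mem_sup_zpowers_cases _ (mem_subgroupOf.2 (D.T_sq hsq uv.2)) h with h | h
          · exact huN (mem_subgroupOf.1 h)
          · have h' : u * v * u ∈ D.N := mem_subgroupOf.1 h
            have h'' := D.conj_mem_N (inv_mem (D.L_le_S huL).1) h'
            rw [show u⁻¹ * (u * v * u) * u⁻¹⁻¹ = v * (u * u) by group, hu2, mul_one] at h''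
            exact hvL (D.N_le_L h'')
        obtain ⟨χ, h1, h2⟩ := D.T_hom hsq _ le_sup_left hnot
        refine ⟨χ, fun a ha ha2 haN => ?_⟩
        have hvval : χ ⟨v, hv.1⟩ = -1 := by
          have := h1 uv (mem_sup_right (mem_zpowers _))
          rw [show uv = ⟨u, (D.L_le_S huL).1⟩ * ⟨v, hv.1⟩ from rfl, map_mul, h2, neg_one_mul,
            neg_eq_iff_eq_neg] at this
          exact this
        by_cases haL : a ∈ D.L
        · have := h1 (⟨u, (D.L_le_S huL).1⟩ * ⟨a, ha.1⟩)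
            (mem_sup_left (mem_subgroupOf.2 (hcos a haL haN)))
          rw [map_mul, h2, neg_one_mul, neg_eq_iff_eq_neg] at this
          exact this
        · have hmem : v⁻¹ * a ∈ D.N := by
            by_contra hne
            exact D.three_cosets hsq huL hu2 huN hv hvL hv2 ha haL ha2 hne
          have := h1 (⟨v, hv.1⟩⁻¹ * ⟨a, ha.1⟩) (mem_sup_left (mem_subgroupOf.2 hmem))
          rw [map_mul, map_inv, hvval, inv_mul_eq_one] at this
          exact this.symm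
      · obtain ⟨χ, h1, h2⟩ := D.T_hom hsq (D.N.subgroupOf _) le_rfl (x := ⟨u, (D.L_le_S huL).1⟩)
          (fun h => huN (mem_subgroupOf.1 h))
        refine ⟨χ, fun a ha ha2 haN => ?_⟩
        have haL : a ∈ D.L := by_contra fun h => hout ⟨a, ha, h, ha2⟩
        have := h1 (⟨u, (D.L_le_S huL).1⟩ * ⟨a, ha.1⟩) (mem_subgroupOf.2 (hcos a haL haN))
        rw [map_mul, h2, neg_one_mul, neg_eq_iff_eq_neg] at this
        exact this
    · obtain ⟨f, hf, hfL⟩ := D.exists_not_L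
      obtain ⟨χ, h1, h2⟩ := D.T_hom hsq (D.L.subgroupOf _)
        (fun n hn => mem_subgroupOf.2 (D.N_le_L (mem_subgroupOf.1 hn))) (x := ⟨f, hf.1⟩)
        (fun h => hfL (mem_subgroupOf.1 h))
      refine ⟨χ, fun a ha ha2 haN => ?_⟩
      have haL : a ∉ D.L := fun h => hin ⟨a, h, ha2, haN⟩
      have := h1 (⟨f, hf.1⟩⁻¹ * ⟨a, ha.1⟩) (mem_subgroupOf.2 (D.inv_mul_mem_L hf hfL ha haL))
      rw [map_mul, map_inv, h2, inv_mul_eq_one] at this
      exact this.symm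
  have hu1 : u₀ ≠ 1 := fun h => hu₀N (h ▸ one_mem _)
  have ho : orderOf u₀ = 2 := orderOf_eq_prime (by rw [pow_two, hu₀2]) hu1
  have hV := transfer_eq_of_fixed D.T χ ho (zpowers u₀) (D.T.2.to_le (zpowers_le.2 hu₀.1))
    (fun q hq => by
      obtain ⟨i, rfl⟩ := mem_zpowers_iff.1 hq
      exact ((Commute.refl u₀).zpow_left i).eq) (mem_zpowers u₀) (-1) ?_
  · rw [D.A_hom_trivial _ hu₀.2] at hV
    exact absurd hV (by decide)
  intro g hg _
  have hwS : g⁻¹ * u₀ * g ∈ D.S := ⟨hg, D.normal.conj_mem' u₀ hu₀.2 g⟩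
  refine hχ _ hwS ?_ fun h => ?_
  · rw [show g⁻¹ * u₀ * g * (g⁻¹ * u₀ * g) = g⁻¹ * (u₀ * u₀) * g by group, hu₀2, mul_one,
      inv_mul_cancel]
  · have hw1 : g⁻¹ * u₀ * g ≠ 1 := fun h1 => hu1 (by
      rw [show u₀ = g * (g⁻¹ * u₀ * g) * g⁻¹ by group, h1, mul_one, mul_inv_cancel])
    have hz := D.N_invol h (by
      rw [show g⁻¹ * u₀ * g * (g⁻¹ * u₀ * g) = g⁻¹ * (u₀ * u₀) * g by group, hu₀2, mul_one,
        inv_mul_cancel]) hw1
    exact hu₀N (hiso u₀ hu₀ hu₀2 ⟨g, by rw [← hz]; group⟩ ▸ D.z_mem_N)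

/-- An element of `T` centralising a conjugate `u ≠ z` of `z` has order at most two. -/
theorem sq_eq_one_of_fused (hsq : ∀ x ∈ D.S, x * x ∈ D.N) {u : K} (hu : u ∈ D.S)
    (hu2 : u * u = 1) (huz : u ≠ D.z) {g : K} (hg : g * D.z * g⁻¹ = u) {y : K}
    (hy : y ∈ (D.T : Subgroup K)) (hyu : y * u = u * y) : y * y = 1 := by
  haveI : Fact (Nat.Prime 2) := ⟨Nat.prime_two⟩
  by_contra h2
  obtain ⟨y', hy', hy'z⟩ := D.exists_pow_z hy
    (fun x hx => D.T_sq hsq (zpowers_le.2 hy hx)) h2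
  set C := centralizer ({D.z} : Set K) with hC
  have hTC : (D.T : Subgroup K) ≤ C := fun x hx => mem_centralizer_singleton_iff.2 (D.z_comm hx)
  set P := (D.T : Subgroup K) ⊓ centralizer ({u} : Set K) with hP
  have hy'P : y' ∈ P :=
    zpowers_le.2 (show y ∈ P from ⟨hy, mem_centralizer_singleton_iff.2 hyu⟩) hy'
  have huP : u ∈ P := ⟨hu.1, mem_centralizer_singleton_iff.2 rfl⟩
  set V := P.map (MulAut.conj g⁻¹).toMonoidHom with hV
  have hVC : V ≤ C := by
    rintro _ ⟨x, hx, rfl⟩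
    refine mem_centralizer_singleton_iff.2 ?_
    have h3 := mem_centralizer_singleton_iff.1 hx.2
    simp only [MulEquiv.toMonoidHom_eq_coe, MonoidHom.coe_coe, MulAut.conj_apply, inv_inv]
    have h4 : g⁻¹ * u * g = D.z := by rw [← hg]; group
    rw [← h4]
    calc g⁻¹ * x * g * (g⁻¹ * u * g) = g⁻¹ * (x * u) * g := by group
      _ = g⁻¹ * (u * x) * g := by rw [h3]
      _ = _ := by group
  have hmax : ¬ 2 ∣ (D.T : Subgroup K).relIndex C :=
    fun h => D.T.not_dvd_index (h.trans (relIndex_dvd_index_of_le hTC))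
  obtain ⟨k, hk, hkV⟩ := Transfer.exists_conj_le_of_isPGroup D.T.2 hTC hmax
    ((D.T.2.to_le inf_le_left).map _) hVC
  have hm : ∀ x ∈ P, k⁻¹ * (g⁻¹ * x * g) * k ∈ (D.T : Subgroup K) := fun x hx => by
    have := hkV _ ⟨x, hx, rfl⟩
    simpa using this
  have h5 : k⁻¹ * (g⁻¹ * D.z * g) * k ∈ D.N := by
    have h6 := D.T_sq hsq (hm y' hy'P)
    rwa [show k⁻¹ * (g⁻¹ * y' * g) * k * (k⁻¹ * (g⁻¹ * y' * g) * k) =
      k⁻¹ * (g⁻¹ * (y' * y') * g) * k by group, hy'z] at h6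
  have h6 := D.N_invol h5
    (by rw [show k⁻¹ * (g⁻¹ * D.z * g) * k * (k⁻¹ * (g⁻¹ * D.z * g) * k) =
      k⁻¹ * (g⁻¹ * (D.z * D.z) * g) * k by group, D.zz]; group)
    (fun h => D.z_ne (by
      rw [show D.z = g * (k * (k⁻¹ * (g⁻¹ * D.z * g) * k) * k⁻¹) * g⁻¹ by group, h]; group))
  have hkz : k * D.z = D.z * k := mem_centralizer_singleton_iff.1 hk
  have h7 : g⁻¹ * D.z * g = D.z := by
    calc g⁻¹ * D.z * g = k * (k⁻¹ * (g⁻¹ * D.z * g) * k) * k⁻¹ := by group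
      _ = k * D.z * k⁻¹ := by rw [h6]
      _ = D.z := by rw [hkz, mul_inv_cancel_right]
  refine huz ?_
  rw [← hg]
  calc g * D.z * g⁻¹ = g * (g⁻¹ * D.z * g) * g⁻¹ := by rw [h7]
    _ = D.z := by group

end Setup

end CfsgLib.SemiCyc4
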