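import Cfsg.Agent.Lib.Involutions.CyclicFourFixed.Elementary

/-!
The case in which `z` is fused to an involution of `S` outside `N`: impossible.
-/

set_option autoImplicit false
set_option linter.style.haveILetI false

namespace CfsgLib.SemiCyc4

open Subgroup

namespace Setup

variable {K : Type*} [Group K] [Finite K] (D : Setup K)

theorem false_of_fused_in_L (hsq : ∀ x ∈ D.S, x * x ∈ D.N) {u g : K} (hu : u ∈ D.L)
    (hu2 : u * u = 1) (huN : u ∉ D.N) (hg : g * D.z * g⁻¹ = u) : False := by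
  have huS := D.L_le_S hu
  have huz : u ≠ D.z := fun h => huN (h ▸ D.z_mem_N)
  have helem := fun {y : K} => D.sq_eq_one_of_fused hsq huS hu2 huz hg (y := y)
  have hu1 : u ≠ 1 := fun h => huN (h ▸ one_mem _)
  obtain ⟨n, hn, rfl | rfl⟩ := D.L_cases hu
  · exact huN hn
  obtain ⟨k, hkodd, hk⟩ := D.exists_exponent D.c_memT
  have hnk : n ^ k ∈ D.N := zpow_mem hn k
  have hrel : n ^ (k + 1) = D.z := by
    have h1 : n ^ k * D.z * n = 1 := by
      rw [← hk n hn, ← hu2]
      show D.c * n * D.c⁻¹ * (D.c * D.c) * n = _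
      group
    rw [mul_assoc, D.N_comm D.z_mem_N hn, ← mul_assoc] at h1
    rw [zpow_add_one, eq_inv_of_mul_eq_one_left h1, D.z_inv]
  obtain ⟨q, rfl⟩ := hkodd
  rcases Int.even_or_odd' q with ⟨h, rfl | rfl⟩
  · have hn4 : n ^ (4 : ℤ) = 1 := by
      refine D.odd_eq_one (zpow_mem (D.N_le_T hn) _) (o := 2 * h + 1) ⟨h, rfl⟩ ?_
      rw [← zpow_mul, show (4 : ℤ) * (2 * h + 1) = (2 * (2 * h) + 1 + 1) * 2 by ring, zpow_mul, hrel,
        zpow_two, D.zz]
    have hcn : D.c * n = n * D.c := by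
      have h1 := hk n hn
      rw [show (2 : ℤ) * (2 * h) + 1 = 4 * h + 1 by ring, zpow_add_one, zpow_mul, hn4, one_zpow,
        one_mul] at h1
      nth_rw 2 [← h1]
      group
    refine D.c_sq_ne (helem D.c_memT ?_)
    rw [mul_assoc D.c n D.c, ← hcn]
  · obtain ⟨x, hx, hxo⟩ := D.exists_root (inv_mem hn) (show Odd (2 * h + 1) from ⟨h, rfl⟩)
    obtain ⟨s, hs, hsx⟩ := D.exists_psi (inv_mem hx)
    have hy : D.t * x = s⁻¹ * D.t * s⁻¹⁻¹ := by
      rw [inv_inv]
      calc D.t * x = D.t * x * D.t * D.t := by rw [mul_assoc (D.t * x), D.tt, mul_one]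
        _ = D.psi s * D.t := by rw [D.t_conj_N hx, hsx]
        _ = s⁻¹ * D.t * s := by
          show s⁻¹ * (D.t * s * D.t) * D.t = _
          simp only [mul_assoc, D.tt, mul_one]
    have hzx : D.z * x = x * D.z := D.N_comm D.z_mem_N hx
    have hxc : D.c⁻¹ * x * D.c = x ^ (2 * (2 * h + 1) + 1) := by
      rw [← hk x hx]
      calc D.c⁻¹ * x * D.c = D.c⁻¹ * (x * D.z) * (D.z⁻¹ * D.c) := by group
        _ = D.c⁻¹ * (D.z * x) * (D.z⁻¹ * D.c) := by rw [hzx]
        _ = D.c * x * D.c⁻¹ := by unfold z; group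
    have hconj : x * (D.c * n) * x⁻¹ = D.c * n⁻¹ := by
      have hc2 : x ^ (2 * (2 * h + 1) + 1) * n * x⁻¹ = n⁻¹ := by
        rw [mul_assoc, D.N_comm hn (inv_mem hx), ← mul_assoc, zpow_add_one, mul_inv_cancel_right,
          mul_comm (2 : ℤ), zpow_mul, hxo, zpow_two, inv_mul_cancel_right]
      calc x * (D.c * n) * x⁻¹ = D.c * (D.c⁻¹ * x * D.c * n * x⁻¹) := by group
        _ = D.c * n⁻¹ := by rw [hxc, hc2]
    have huy : D.c * n * (D.t * x) = D.t * x * (D.c * n) := by
      calc D.c * n * (D.t * x) = D.t * (D.t * (D.c * n) * D.t) * x := by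
              simp only [mul_assoc, D.tt_cancel]
        _ = D.t * (D.t * D.c * D.t * (D.t * n * D.t)) * x := by
              simp only [mul_assoc, D.tt_cancel]
        _ = D.t * (D.c * n⁻¹) * x := by
              rw [← D.c_comm, mul_assoc D.c, D.tt, mul_one, D.t_conj_N hn]
        _ = D.t * x * (D.c * n) := by
              rw [← hconj]
              simp only [mul_assoc, inv_mul_cancel, mul_one]
    have hzy : D.z * (D.t * x) = D.t * x * D.z := by
      rw [← mul_assoc, D.z_comm_t, mul_assoc, hzx, ← mul_assoc]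
    rw [hy] at huy hzy
    exact huz (D.no_four huS.2 D.z_mem.2 huy hzy (D.z_comm huS.1) hu2 D.zz hu1 D.z_ne)

theorem false_of_fused_out (hsq : ∀ x ∈ D.S, x * x ∈ D.N) {u g₀ : K} (hu : u ∈ D.S)
    (huL : u ∉ D.L) (hu2 : u * u = 1) (hg₀ : g₀ * D.z * g₀⁻¹ = u) : False := by
  have huN : u ∉ D.N := fun h => huL (D.N_le_L h)
  have huz : u ≠ D.z := fun h => huN (h ▸ D.z_mem_N)
  have helem := fun {y : K} => D.sq_eq_one_of_fused hsq hu hu2 huz hg₀ (y := y)
  have hu1 : u ≠ 1 := fun h => huN (h ▸ one_mem _)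
  have hui : u⁻¹ = u := inv_eq_of_mul_eq_one_right hu2
  set d := D.psi u with hd
  have hdN : d ∈ D.N := D.psi_mem hu.1
  have hdns : ¬ D.Sq d := fun h => huL ⟨hu, h⟩
  have hgen := D.gen_of_not_sq hdN hdns
  have hinv : ∀ n ∈ D.N, u * n * u⁻¹ = n⁻¹ := fun n hn => D.inverts hu huL hu2 hn
  have hswap : ∀ n ∈ D.N, n * u = u * n⁻¹ := fun n hn => by
    calc n * u = u * (u⁻¹ * n * u⁻¹⁻¹) := by group
      _ = u * n⁻¹ := by rw [hui, ← hinv n hn, hui]
  have htu : D.t * u * D.t = u * d := by rw [hd, psi, mul_inv_cancel_left]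
  obtain ⟨k, hkodd, hk⟩ := D.exists_exponent D.c_memT
  set g := u⁻¹ * D.c * u * D.c⁻¹ with hgdef
  have hgN : g ∈ D.N := by
    have := D.comm_mem_N ((D.T : Subgroup K).inv_mem hu.1) D.c_memT
    rwa [inv_inv] at this
  have hcu : D.c * u * D.c⁻¹ = u * g := by rw [hgdef]; group
  have htun : ∀ n ∈ D.N, D.t * (u * n) * D.t = u * d * n⁻¹ := by
    intro n hn
    rw [← htu, ← D.t_conj_N hn]
    simp only [mul_assoc, D.tt_cancel]
  have hrel : g * g = d ^ (1 - k) := by
    have h1 : u * g * d ^ k = u * d * g⁻¹ := by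
      rw [← htun g hgN, ← hcu, ← hk d hdN]
      calc D.c * u * D.c⁻¹ * (D.c * d * D.c⁻¹) = D.c * (u * d) * D.c⁻¹ := by group
        _ = D.c * (D.t * u * D.t) * D.c⁻¹ := by rw [htu]
        _ = D.c * D.t * u * (D.t * D.c⁻¹) := by simp only [mul_assoc]
        _ = D.t * D.c * u * (D.c⁻¹ * D.t) := by
            rw [D.c_comm, show D.t * D.c⁻¹ = D.c⁻¹ * D.t from
              ((show Commute D.c D.t from D.c_comm).inv_left).eq.symm]
        _ = _ := by simp only [mul_assoc]
    rw [mul_assoc u g, mul_assoc u d] at h1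
    have h2 : g * d ^ k = g⁻¹ * d := (mul_left_cancel h1).trans (D.N_comm hdN (inv_mem hgN))
    rw [zpow_sub, zpow_one]
    calc g * g = g * (g * d ^ k) * (d ^ k)⁻¹ := by group
      _ = d * (d ^ k)⁻¹ := by rw [h2]; group
  by_cases hdd : d * d = 1
  · have htwo : ∀ n ∈ D.N, n * n = 1 := by
      intro n hn
      obtain ⟨i, rfl⟩ := hgen n hn
      rw [(Commute.refl d).mul_zpow i |>.symm, hdd, one_zpow]
    by_cases hg1 : g = 1
    · refine D.c_sq_ne (helem D.c_memT ?_)
      calc D.c * u = D.c * u * D.c⁻¹ * D.c := by group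
        _ = u * D.c := by rw [hcu, hg1, mul_one]
    · have hgz : g = D.z := D.N_invol hgN (htwo g hgN) hg1
      have hdz : d = D.z := D.N_invol hdN hdd
        (fun h => hdns ⟨1, one_mem _, by rw [one_mul, h]⟩)
      refine D.c_sq_ne ?_
      have hy2 := helem (y := D.t * D.c) ((D.T : Subgroup K).mul_mem D.t_mem D.c_memT) ?_
      · rwa [show D.t * D.c * (D.t * D.c) = D.c * D.c from by
          rw [← mul_assoc, mul_assoc D.t D.c D.t, D.c_comm, ← mul_assoc, D.tt, one_mul]] at hy2
      · calc D.t * D.c * u = D.t * (D.c * u * D.c⁻¹) * D.c := by group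
          _ = D.t * (u * D.z) * D.t * (D.t * D.c) := by
              rw [hcu, hgz]; simp only [mul_assoc, D.tt_cancel]
          _ = u * (D.t * D.c) := by
              rw [htun _ D.z_mem_N, hdz, D.z_inv, mul_assoc u, D.zz, mul_one]
  have hee : D.e * D.e ≠ 1 := by
    intro h
    obtain ⟨i, hi⟩ := D.mem_N_iff.1 hdN
    exact hdd (by rw [← hi, (Commute.refl D.e).mul_zpow i |>.symm, h, one_zpow])
  have hsqw : ∀ w ∈ D.N, w * w = 1 → D.Sq w := by
    intro w hw hw2
    by_cases hw1 : w = 1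
    · exact ⟨1, one_mem _, by rw [hw1, one_mul]⟩
    · rw [D.N_invol hw hw2 hw1]; exact D.sq_z hee
  have hsqeven : ∀ j : ℤ, D.Sq (d ^ (2 * j)) := fun j =>
    ⟨d ^ j, zpow_mem hdN j, by rw [two_mul, zpow_add]⟩
  have hsqmul : ∀ a b : K, D.Sq a → D.Sq b → D.Sq (a * b) := by
    rintro _ _ ⟨a, ha, rfl⟩ ⟨b, hb, rfl⟩
    exact ⟨a * b, mul_mem ha hb, by
      rw [show a * b * (a * b) = a * (b * a) * b by group, D.N_comm hb ha]; group⟩
  have hcomm : ∀ a b : K, a ∈ D.N → b ∈ D.N → Commute a b := fun a b ha hb => D.N_comm ha hb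
  obtain ⟨q, rfl⟩ := hkodd
  rcases Int.even_or_odd' q with ⟨h, rfl | rfl⟩
  · -- `c` acts as an exponent congruent to one modulo four
    have hw : g * d ^ (2 * h) * (g * d ^ (2 * h)) = 1 := by
      rw [← pow_two, (hcomm _ _ hgN (zpow_mem hdN _)).mul_pow, pow_two, pow_two, hrel, ← zpow_add,
        ← zpow_add, show 1 - (2 * (2 * h) + 1) + (2 * h + 2 * h) = 0 by ring, zpow_zero]
    obtain ⟨h₀, hh₀, hh₀g⟩ : D.Sq g := by
      have := hsqmul _ _ (hsqw _ (mul_mem hgN (zpow_mem hdN _)) hw) (hsqeven (-h))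
      rwa [mul_assoc, ← zpow_add, show 2 * h + 2 * -h = 0 by ring, zpow_zero, mul_one] at this
    have hyu : h₀ * D.c * u = u * (h₀ * D.c) := by
      calc h₀ * D.c * u = h₀ * u * g * D.c := by rw [mul_assoc h₀ u g, ← hcu]; group
        _ = u * (h₀⁻¹ * g) * D.c := by rw [hswap h₀ hh₀]; group
        _ = u * (h₀ * D.c) := by rw [← hh₀g, inv_mul_cancel_left, mul_assoc]
    have hy2 := helem ((D.T : Subgroup K).mul_mem (D.N_le_T hh₀) D.c_memT) hyu
    have hz : h₀ ^ (2 * (2 * h) + 1 + 1) = D.z := by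
      rw [show h₀ * D.c * (h₀ * D.c) = h₀ * (D.c * h₀ * D.c⁻¹) * (D.c * D.c) by group, hk h₀ hh₀,
        ← zpow_one_add] at hy2
      rw [show 2 * (2 * h) + 1 + 1 = 1 + (2 * (2 * h) + 1) by ring, eq_inv_of_mul_eq_one_left hy2]
      exact D.z_inv
    have hgz : g = D.z := by
      refine D.N_invol hgN ?_ ?_
      · rw [← hh₀g]
        refine D.odd_eq_one ((D.T : Subgroup K).mul_mem ((D.T : Subgroup K).mul_mem (D.N_le_T hh₀)
          (D.N_le_T hh₀)) ((D.T : Subgroup K).mul_mem (D.N_le_T hh₀) (D.N_le_T hh₀)))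
          (o := 2 * h + 1) ⟨h, rfl⟩ ?_
        rw [← zpow_two, ← zpow_two, ← zpow_mul, ← zpow_mul,
          show 2 * (2 * (2 * h + 1)) = (2 * (2 * h) + 1 + 1) * 2 by ring, zpow_mul, hz, zpow_two, D.zz]
      · intro h1
        rw [show 2 * (2 * h) + 1 + 1 = 2 * (2 * h + 1) by ring, zpow_mul, zpow_two, hh₀g, h1,
          one_zpow] at hz
        exact D.z_ne hz.symm
    have hdk : d ^ (2 * (2 * h) + 1) = d := by
      have h1 := hrel
      rw [hgz, D.zz, zpow_sub, zpow_one] at h1
      exact (eq_of_mul_inv_eq_one h1.symm).symm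
    have hcN : ∀ n ∈ D.N, D.c * n = n * D.c := by
      intro n hn
      obtain ⟨i, rfl⟩ := hgen n hn
      have h1 := hk d hdN
      rw [hdk] at h1
      have h2 : Commute D.c d := by
        show D.c * d = d * D.c
        nth_rw 2 [← h1]
        group
      exact (h2.zpow_right i).eq
    have hyS : h₀ * D.c ∈ D.S := mul_mem (D.N_le_S hh₀) D.c_mem
    refine D.central_excluded hsq hyS hy2 ?_ (D.S_generated hu huL ?_ ?_ hyu)
    · intro hh
      have := mul_mem (inv_mem hh₀) hh
      rw [inv_mul_cancel_left] at this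
      exact D.c_notin_N this
    · intro n hn
      rw [mul_assoc, hcN n hn, ← mul_assoc, D.N_comm hh₀ hn, mul_assoc]
    · rw [← mul_assoc D.c, hcN h₀ hh₀]
  · -- `c` acts as an exponent congruent to three modulo four
    set o := 2 * h + 1 with ho
    have hw : g * d ^ o * (g * d ^ o) = 1 := by
      rw [← pow_two, (hcomm _ _ hgN (zpow_mem hdN _)).mul_pow, pow_two, pow_two, hrel, ← zpow_add,
        ← zpow_add, show 1 - (2 * o + 1) + (o + o) = 0 by ring, zpow_zero]
    obtain ⟨n, hn, hng⟩ : D.Sq (g * d⁻¹) := by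
      have := hsqmul _ _ (hsqw _ (mul_mem hgN (zpow_mem hdN _)) hw) (hsqeven (-(h + 1)))
      rwa [mul_assoc, ← zpow_add, show o + 2 * -(h + 1) = -1 by rw [ho]; ring, zpow_neg_one] at this
    have hgeq : g = n * n * d := by rw [hng, inv_mul_cancel_right]
    have hconjnc : n * D.c * u = u * d * (n * D.c) := by
      calc n * D.c * u = n * u * g * D.c := by rw [mul_assoc n u g, ← hcu]; group
        _ = u * (n⁻¹ * (n * n * d)) * D.c := by rw [hswap n hn, hgeq]; group
        _ = u * (n * d) * D.c := by group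
        _ = u * (d * n) * D.c := by rw [D.N_comm hn hdN]
        _ = u * d * (n * D.c) := by group
    set t' := D.t * (n * D.c) with ht'
    have ht'u : t' * u = u * t' := by
      calc t' * u = D.t * (n * D.c * u) := by rw [ht']; group
        _ = D.t * (u * d) * D.t * (D.t * (n * D.c)) := by
            rw [hconjnc]; simp only [mul_assoc, D.tt_cancel]
        _ = u * t' := by rw [htun d hdN, mul_inv_cancel_right, ht']
    have hncT : n * D.c ∈ D.S := mul_mem (D.N_le_S hn) D.c_mem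
    have ht'T : t' ∈ (D.T : Subgroup K) := (D.T : Subgroup K).mul_mem D.t_mem hncT.1
    have ht'2 : t' * t' = 1 := helem ht'T ht'u
    have hsqform : ∀ x ∈ D.N, D.t * (x * D.c) * (D.t * (x * D.c)) =
        x⁻¹ * x ^ (2 * o + 1) * D.z := by
      intro x hx
      rw [← hk x hx, ← D.t_conj_N hx]
      calc D.t * (x * D.c) * (D.t * (x * D.c))
          = D.t * x * (D.c * D.t) * x * D.c := by group
        _ = D.t * x * (D.t * D.c) * x * D.c := by rw [D.c_comm]
        _ = _ := by unfold z; group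
    have hn2 : n * n = D.z := by
      have h1 := ht'2
      rw [ht', hsqform n hn, zpow_add_one, ← mul_assoc, (hcomm _ _ (inv_mem hn) (zpow_mem hn _)).eq,
        inv_mul_cancel_right] at h1
      have h2 : n ^ (2 * o) = D.z := (eq_inv_of_mul_eq_one_left h1).trans D.z_inv
      refine D.N_invol (mul_mem hn hn) ?_ ?_
      · refine D.odd_eq_one ((D.T : Subgroup K).mul_mem ((D.T : Subgroup K).mul_mem (D.N_le_T hn)
          (D.N_le_T hn)) ((D.T : Subgroup K).mul_mem (D.N_le_T hn) (D.N_le_T hn)))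
          (o := o) ⟨h, rfl⟩ ?_
        rw [← zpow_two, ← zpow_two, ← zpow_mul, ← zpow_mul,
          show 2 * (2 * o) = 2 * o * 2 by ring, zpow_mul, h2, zpow_two, D.zz]
      · intro h3
        rw [zpow_mul, zpow_two, h3, one_zpow] at h2
        exact D.z_ne h2.symm
    rw [hn2] at hgeq
    have hcinv : ∀ x ∈ D.N, D.c * x * D.c⁻¹ = x⁻¹ := by
      have h1 : d ^ (2 * o + 1) = d⁻¹ := by
        have h2 := hrel
        rw [hgeq, show D.z * d * (D.z * d) = D.z * (d * D.z) * d by group,
          D.N_comm hdN D.z_mem_N, show D.z * (D.z * d) * d = D.z * D.z * (d * d) by group, D.zz,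
          one_mul, zpow_sub, zpow_one] at h2
        have h3 := mul_left_cancel h2
        rw [eq_inv_iff_mul_eq_one]; exact eq_inv_iff_mul_eq_one.1 h3 |> fun h4 => mul_eq_one_comm.1 h4
      intro x hx
      obtain ⟨i, rfl⟩ := hgen x hx
      rw [← conj_zpow, hk d hdN, h1, inv_zpow]
    have hxx : ∀ x ∈ D.N, D.t * (x * D.c) * (D.t * (x * D.c)) = x⁻¹ * x⁻¹ * D.z := by
      intro x hx
      rw [hsqform x hx, ← hk x hx, hcinv x hx]
    -- involutions in the cosets of `tc` and `tcu` centralise a four group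
    have hfour : ∀ s ∈ D.S, D.t * s * (D.t * s) = 1 →
        (∃ x ∈ D.N, s = x * D.c ∨ s = x * D.c * u) → ∀ a : K, a * D.t * a⁻¹ ≠ D.t * s := by
      rintro s hs hts ⟨x, hx, hsx⟩ a ha
      obtain ⟨u', hu'S, hu'2, hu'N, hu'y⟩ : ∃ u' ∈ D.S, u' * u' = 1 ∧ u' ∉ D.N ∧
          u' * (D.t * s) = D.t * s * u' := by
        rcases hsx with rfl | rfl
        · refine ⟨u, hu, hu2, huN, ?_⟩
          have hxz : x * x = D.z := by
            rw [hxx x hx, ← mul_inv_rev] at hts
            rw [← inv_inv (x * x), eq_inv_of_mul_eq_one_left hts, inv_inv]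
          have h1 : x * D.c * u = u * d * (x * D.c) := by
            calc x * D.c * u = x * u * g * D.c := by rw [mul_assoc x u g, ← hcu]; group
              _ = u * (x⁻¹ * g) * D.c := by rw [hswap x hx]; group
              _ = u * (x⁻¹ * (x * x * d)) * D.c := by rw [hgeq, hxz]
              _ = u * (x * d) * D.c := by group
              _ = u * (d * x) * D.c := by rw [D.N_comm hx hdN]
              _ = u * d * (x * D.c) := by group
          calc u * (D.t * (x * D.c)) = D.t * (D.t * u * D.t) * (x * D.c) := by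
                simp only [mul_assoc, D.tt_cancel]
            _ = D.t * (x * D.c * u) := by rw [htu, h1]; group
            _ = D.t * (x * D.c) * u := by group
        · set v := x * n with hv
          have hvN : v ∈ D.N := mul_mem hx hn
          refine ⟨u * v, mul_mem hu (D.N_le_S hvN), ?_, fun h4 => huN ?_, ?_⟩
          · rw [show u * v * (u * v) = u * (v * u) * v by group, hswap v hvN, ← mul_assoc u u,
              hu2, one_mul, inv_mul_cancel]
          · have := mul_mem h4 (inv_mem hvN)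
            rwa [mul_inv_cancel_right] at this
          · have hn' : n⁻¹ = n * D.z := by
              refine inv_eq_of_mul_eq_one_right ?_
              rw [← mul_assoc, hn2, D.zz]
            have hxn : x⁻¹ * n⁻¹ * x = n⁻¹ := by
              rw [mul_assoc, D.N_comm (inv_mem hn) hx, inv_mul_cancel_left]
            have hdn : d * n⁻¹ ∈ D.N := mul_mem hdN (inv_mem hn)
            have h1 : x * D.c * u * (u * v) = u * d * (x⁻¹ * n⁻¹) * (x * D.c * u) := by
              calc x * D.c * u * (u * v) = x * D.c * ((u * u) * v) := by simp only [mul_assoc]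
                _ = x * (D.c * v * D.c⁻¹) * D.c := by rw [hu2, one_mul]; group
                _ = n⁻¹ * D.c := by
                    rw [hcinv v hvN, hv, mul_inv_rev, D.N_comm (inv_mem hn) (inv_mem hx),
                      mul_inv_cancel_left]
                _ = n * D.z * D.c := by rw [hn']
                _ = n * d⁻¹ * (D.z * d) * D.c := by
                    rw [D.N_comm D.z_mem_N hdN]; group
                _ = (d * n⁻¹)⁻¹ * g * D.c := by rw [mul_inv_rev, inv_inv, hgeq]
                _ = u * (d * n⁻¹) * u⁻¹ * g * D.c := by rw [hinv _ hdn]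
                _ = u * (d * n⁻¹) * (u * g) * D.c := by rw [hui]; group
                _ = u * d * (x⁻¹ * n⁻¹ * x) * (D.c * u) := by rw [hxn, ← hcu]; group
                _ = _ := by group
            have h2 : u * d * (x⁻¹ * n⁻¹) = D.t * (u * v) * D.t := by
              rw [htun v hvN, hv, mul_inv_rev, D.N_comm (inv_mem hn) (inv_mem hx)]
            calc u * v * (D.t * (x * D.c * u)) = D.t * (D.t * (u * v) * D.t) * (x * D.c * u) := by
                  simp only [mul_assoc, D.tt_cancel]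
              _ = D.t * (x * D.c * u * (u * v)) := by rw [h1, h2]; group
              _ = D.t * (x * D.c * u) * (u * v) := by group
      have hzy : D.z * (a * D.t * a⁻¹) = a * D.t * a⁻¹ * D.z := by
        rw [ha]; exact (D.z_comm ((D.T : Subgroup K).mul_mem D.t_mem hs.1)).symm
      rw [← ha] at hu'y
      exact hu'N (D.no_four hu'S.2 D.z_mem.2 hu'y hzy (D.z_comm hu'S.1) hu'2 D.zz
        (fun h5 => hu'N (h5 ▸ one_mem _)) D.z_ne ▸ D.z_mem_N)
    -- no involution in the coset of `tu`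
    have hnone : ∀ x ∈ D.N, D.t * (u * x) * (D.t * (u * x)) ≠ 1 := by
      intro x hx h1
      rw [← mul_assoc, htun x hx] at h1
      refine hdns ⟨x, hx, ?_⟩
      rw [show u * d * x⁻¹ * (u * x) = u * ((d * x⁻¹) * u) * x by group,
        hswap _ (mul_mem hdN (inv_mem hx)), ← mul_assoc u u, hu2, one_mul, mul_inv_rev, inv_inv] at h1
      have h2 : x * d⁻¹ = x⁻¹ := eq_inv_of_mul_eq_one_left h1
      calc x * x = x * d⁻¹ * d * x := by group
        _ = x⁻¹ * (d * x) := by rw [h2]; group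
        _ = d := by rw [D.N_comm hdN hx, inv_mul_cancel_left]
    have hclass : ∀ y ∈ (D.T : Subgroup K), y ∉ D.A → y * y = 1 → ∃ s ∈ D.S, y = D.t * s ∧
        (s ∈ D.N ∨ ∃ x ∈ D.N, s = x * D.c ∨ s = x * D.c * u) := by
      intro y hy hyA hy2
      obtain ⟨s, hs, rfl⟩ := (D.cover_T hy).resolve_left (fun hh => hyA hh.2)
      refine ⟨s, hs, rfl, ?_⟩
      by_cases hsL : s ∈ D.L
      · obtain ⟨m, hm, rfl | rfl⟩ := D.L_cases hsL
        · exact Or.inl hm
        · exact Or.inr ⟨D.c * m * D.c⁻¹, D.conj_mem_N D.c_memT hm, Or.inl (by group)⟩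
      · obtain ⟨m, hm, h1 | h1⟩ := D.L_cases (D.inv_mul_mem_L hu huL hs hsL)
        · obtain rfl : s = u * m := by rw [← h1, mul_inv_cancel_left]
          exact absurd hy2 (hnone m hm)
        · refine Or.inr ⟨u * D.c * u⁻¹ * D.c⁻¹ * (D.c * u * m * (D.c * u)⁻¹),
            mul_mem (D.comm_mem_N hu.1 D.c_memT)
              (D.conj_mem_N ((D.T : Subgroup K).mul_mem D.c_memT hu.1) hm), Or.inr ?_⟩
          rw [show s = u * (D.c * m) by rw [← h1, mul_inv_cancel_left]]
          group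
    -- the character
    haveI : (D.N.subgroupOf (D.T : Subgroup K)).Normal :=
      ⟨fun w hw a => mem_subgroupOf.2 (D.conj_mem_N a.2 (mem_subgroupOf.1 hw))⟩
    set tX : ↥(D.T : Subgroup K) := ⟨D.t, D.t_mem⟩
    set uX : ↥(D.T : Subgroup K) := ⟨u, hu.1⟩
    set cX : ↥(D.T : Subgroup K) := ⟨D.c, D.c_memT⟩
    set M := D.N.subgroupOf (D.T : Subgroup K) ⊔ zpowers uX with hM
    haveI : M.Normal := ⟨fun w hw a => by
      have h1 : a * w * a⁻¹ * w⁻¹ ∈ M :=
        mem_sup_left (mem_subgroupOf.2 (D.comm_mem_N a.2 w.2))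
      have := mul_mem h1 hw
      rwa [inv_mul_cancel_right] at this⟩
    have hsqX : ∀ w : ↥(D.T : Subgroup K), w * w ∈ D.N.subgroupOf _ :=
      fun w => mem_subgroupOf.2 (D.T_sq hsq w.2)
    have hcN' : D.c ∉ D.N := D.c_notin_N
    have htH : tX ∉ M ⊔ zpowers (tX * cX) := by
      intro h1
      have hMcases : ∀ w ∈ M, (w : K) ∈ D.N ∨ u * w ∈ D.N := fun w hw =>
        (mem_sup_zpowers_cases _ (hsqX uX) hw).imp mem_subgroupOf.1 mem_subgroupOf.1
      rcases mem_sup_zpowers_cases M (mem_sup_left (hsqX _)) h1 with h2 | h2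
      · rcases hMcases _ h2 with h3 | h3
        · exact D.t_not (D.N_le_S h3).2
        · have := mul_mem (inv_mem hu) (D.N_le_S h3)
          rw [inv_mul_cancel_left] at this
          exact D.t_not this.2
      · have e : ((tX * cX * tX : ↥(D.T : Subgroup K)) : K) = D.c := by
          show D.t * D.c * D.t = D.c
          rw [← D.c_comm, mul_assoc, D.tt, mul_one]
        rcases hMcases _ h2 with h3 | h3
        · rw [e] at h3; exact hcN' h3
        · rw [e] at h3
          have := D.L.mul_mem (D.N_le_L h3) (inv_mem D.c_mem_L)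
          rw [mul_inv_cancel_right] at this
          exact huL this
    obtain ⟨χ, hχ1, hχt⟩ := D.T_hom hsq _ (le_sup_left.trans le_sup_left) htH
    have hχu : χ uX = 1 := hχ1 _ (mem_sup_left (mem_sup_right (mem_zpowers _)))
    have hχc : χ cX = -1 := by
      have := hχ1 _ (mem_sup_right (mem_zpowers (tX * cX)))
      rwa [map_mul, hχt, neg_one_mul, neg_eq_iff_eq_neg] at this
    have hχN : ∀ (w : K) (hw : w ∈ D.N), χ ⟨w, D.N_le_T hw⟩ = 1 := fun w hw =>
      hχ1 _ (mem_sup_left (mem_sup_left (mem_subgroupOf.2 hw)))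
    have htwo : ∀ {w : K}, w * w = 1 → w ≠ 1 → w ∈ (D.T : Subgroup K) →
        orderOf w = 2 ∧ IsPGroup 2 (zpowers w) ∧ ∀ q ∈ zpowers w, q * w = w * q :=
      fun {w} hw2 hw1 hwT => ⟨orderOf_eq_prime (by rw [pow_two, hw2]) hw1,
        D.T.2.to_le (zpowers_le.2 hwT), fun q hq => by
          obtain ⟨i, rfl⟩ := mem_zpowers_iff.1 hq
          exact ((Commute.refl w).zpow_left i).eq⟩
    have hconjA : ∀ (a w : K), w ∉ D.A → a⁻¹ * w * a ∉ D.A := fun a w hw h1 => hw (by
      have := D.normal.conj_mem _ h1 a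
      rwa [show a * (a⁻¹ * w * a) * a⁻¹ = w by group] at this)
    have hconj2 : ∀ (a w : K), w * w = 1 → a⁻¹ * w * a * (a⁻¹ * w * a) = 1 := fun a w hw => by
      rw [show a⁻¹ * w * a * (a⁻¹ * w * a) = a⁻¹ * (w * w) * a by group, hw, mul_one, inv_mul_cancel]
    have ht1 : D.t ≠ 1 := fun h1 => D.t_not (h1 ▸ one_mem _)
    obtain ⟨ho, hp, hc⟩ := htwo D.tt ht1 D.t_mem
    have hVt : MonoidHom.transfer χ D.t = -1 := by
      refine transfer_eq_of_fixed D.T χ ho _ hp hc (mem_zpowers _) (-1) fun a hat _ => ?_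
      obtain ⟨s, hs, hys, hcase⟩ := hclass _ hat (hconjA a _ D.t_not) (hconj2 a _ D.tt)
      rcases hcase with hsN | hsx
      · rw [show (⟨_, hat⟩ : ↥(D.T : Subgroup K)) = tX * ⟨s, hs.1⟩ from Subtype.ext hys, map_mul,
          hχN s hsN, hχt, mul_one]
      · refine absurd ?_ (hfour s hs (by rw [← hys]; exact hconj2 a _ D.tt) hsx a⁻¹)
        rw [inv_inv, hys]
    have ht'A : t' ∉ D.A := fun h1 => D.t_not (by
      have := mul_mem h1 (inv_mem hncT.2)
      rwa [ht', mul_inv_cancel_right] at this)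
    obtain ⟨ho', hp', hc'⟩ := htwo ht'2 (fun h1 => ht'A (h1 ▸ one_mem _)) ht'T
    have hVt' : MonoidHom.transfer χ t' = 1 := by
      refine transfer_eq_of_fixed D.T χ ho' _ hp' hc' (mem_zpowers _) 1 fun a hat _ => ?_
      obtain ⟨s, hs, hys, hcase⟩ := hclass _ hat (hconjA a _ ht'A) (hconj2 a _ ht'2)
      rcases hcase with hsN | ⟨x, hx, hsx⟩
      · exfalso
        obtain ⟨r, hr, hrs⟩ := D.exists_psi (inv_mem hsN)
        refine hfour (n * D.c) hncT ht'2 ⟨n, hn, Or.inl rfl⟩ (a * r⁻¹) ?_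
        have h1 : D.t * s = r⁻¹ * D.t * r := by
          calc D.t * s = D.t * s * D.t * D.t := by rw [mul_assoc (D.t * s), D.tt, mul_one]
            _ = D.psi r * D.t := by rw [D.t_conj_N hsN, hrs]
            _ = r⁻¹ * D.t * r := by
              show r⁻¹ * (D.t * r * D.t) * D.t = _
              simp only [mul_assoc, D.tt, mul_one]
        calc a * r⁻¹ * D.t * (a * r⁻¹)⁻¹ = a * (r⁻¹ * D.t * r) * a⁻¹ := by group
          _ = a * (a⁻¹ * t' * a) * a⁻¹ := by rw [← h1, hys]
          _ = t' := by group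
      · rcases hsx with rfl | rfl
        · rw [show (⟨_, hat⟩ : ↥(D.T : Subgroup K)) = tX * (⟨x, D.N_le_T hx⟩ * cX) from
            Subtype.ext hys, map_mul, map_mul, hχN x hx, hχt, hχc, one_mul]
          decide
        · rw [show (⟨_, hat⟩ : ↥(D.T : Subgroup K)) = tX * (⟨x, D.N_le_T hx⟩ * cX * uX) from
            Subtype.ext hys, map_mul, map_mul, map_mul, hχN x hx, hχt, hχc, hχu, one_mul, mul_one]
          decide
    rw [ht', map_mul, hVt, D.A_hom_trivial _ hncT.2] at hVt'
    exact absurd hVt' (by decide)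

theorem no_involution_of_sq (hsq : ∀ x ∈ D.S, x * x ∈ D.N) {u : K} (hu : u ∈ D.S)
    (hu2 : u * u = 1) : u ∈ D.N := by
  by_contra huN
  by_cases hf : ∃ a ∈ D.S, a * a = 1 ∧ a ∉ D.N ∧ ∃ g : K, g * D.z * g⁻¹ = a
  · obtain ⟨a, ha, ha2, haN, g, hg⟩ := hf
    by_cases haL : a ∈ D.L
    · exact D.false_of_fused_in_L hsq haL ha2 haN hg
    · exact D.false_of_fused_out hsq ha haL ha2 hg
  · refine D.false_of_not_fused hsq (fun a ha ha2 hg => ?_) hu hu2 huN
    have haN : a ∈ D.N := by_contra fun h => hf ⟨a, ha, ha2, h, hg⟩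
    refine D.N_invol haN ha2 ?_
    rintro rfl
    obtain ⟨g, hg⟩ := hg
    exact D.z_ne (conj_eq_one_iff.1 hg)

end Setup

end CfsgLib.SemiCyc4
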