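import Cfsg.Agent.Lib.Involutions.CyclicFourFixed.Shape
import Cfsg.Agent.Lib.Fusion.MetacyclicClosedTwo
import Cfsg.Agent.Lib.OddOrder.MetacyclicAction
import Cfsg.Agent.Lib.PGroups.MetacyclicTwoAut

/-!
The case in which `S/N` is cyclic: the only possibility left is that `S` is homocyclic of order
sixteen.
-/

set_option autoImplicit false
set_option linter.style.haveILetI false

namespace CfsgLib.SemiCyc4

open Subgroup

namespace Setup

variable {K : Type*} [Group K] [Finite K] (D : Setup K)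

theorem sq_mem_iff {x₀ : K} (hx₀ : x₀ ∈ D.S) (h0 : x₀ * x₀ ∉ D.N) {x : K} (hx : x ∈ D.S) :
    x * x ∈ D.N ↔ x ∈ D.L := by
  refine ⟨fun h => by_contra fun hxL => h0 ?_, D.L_sq⟩
  have hx₀L : x₀ ∉ D.L := fun h1 => h0 (D.L_sq h1)
  set l := x₀⁻¹ * x with hl
  have hlL : l ∈ D.L := D.inv_mul_mem_L hx₀ hx₀L hx hxL
  have hlS := D.L_le_S hlL
  have e : x * x = (x₀ * l * x₀⁻¹ * l⁻¹) *
      (l * (x₀ * x₀) * l⁻¹ * (x₀ * x₀)⁻¹) * (x₀ * x₀) * (l * l) := by
    rw [hl]; group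
  have h1 : (x₀ * l * x₀⁻¹ * l⁻¹) * (l * (x₀ * x₀) * l⁻¹ * (x₀ * x₀)⁻¹) ∈ D.N :=
    mul_mem (D.comm_mem_N hx₀.1 hlS.1) (D.comm_mem_N hlS.1 (mul_mem hx₀.1 hx₀.1))
  rw [e] at h
  have h2 := mul_mem h (inv_mem (D.L_sq hlL))
  rw [mul_inv_cancel_right] at h2
  have h3 := mul_mem (inv_mem h1) h2
  rwa [inv_mul_cancel_left] at h3

theorem L_commute {x₀ : K} (hx₀ : x₀ ∈ D.S) (h0 : x₀ * x₀ ∉ D.N) {x : K} (hx : x ∈ D.L) {n : K}
    (hn : n ∈ D.N) (hn4 : n ^ (4 : ℤ) = 1) : x * n = n * x := by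
  have hx₀L : x₀ ∉ D.L := fun h1 => h0 (D.L_sq h1)
  obtain ⟨m, hm, h | h⟩ := D.L_cases (D.mul_mem_L hx₀ hx₀L hx₀ hx₀L)
  · exact absurd (h ▸ hm) h0
  obtain ⟨J, hJodd, hJ⟩ := D.exists_exponent hx₀.1
  obtain ⟨q, rfl⟩ := hJodd
  have hc : Commute D.c n := by
    have h1 : D.c * (m * n * m⁻¹) * D.c⁻¹ = x₀ * (x₀ * n * x₀⁻¹) * x₀⁻¹ := by
      calc D.c * (m * n * m⁻¹) * D.c⁻¹ = D.c * m * n * (D.c * m)⁻¹ := by group
        _ = x₀ * x₀ * n * (x₀ * x₀)⁻¹ := by rw [h]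
        _ = _ := by group
    rw [D.N_comm hm hn, mul_inv_cancel_right, hJ n hn, hJ _ (zpow_mem hn _), ← zpow_mul,
      show (2 * q + 1) * (2 * q + 1) = 4 * (q * q + q) + 1 by ring, zpow_add_one, zpow_mul, hn4,
      one_zpow, one_mul] at h1
    show D.c * n = n * D.c
    nth_rw 2 [← h1]
    group
  obtain ⟨k, hk, rfl | rfl⟩ := D.L_cases hx
  · exact D.N_comm hk hn
  · exact (hc.mul_left (show Commute k n from D.N_comm hk hn)).eq

theorem c_commute_of_sq {x₀ : K} (hx₀ : x₀ ∈ D.S) (h0 : x₀ * x₀ ∉ D.N) {m : K} (hm : m ∈ D.N)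
    (h : D.c * m * (D.c * m) = 1) : D.c * m = m * D.c := by
  have hx₀L : x₀ ∉ D.L := fun h1 => h0 (D.L_sq h1)
  obtain ⟨m₀, hm₀, h1 | h1⟩ := D.L_cases (D.mul_mem_L hx₀ hx₀L hx₀ hx₀L)
  · exact absurd (h1 ▸ hm₀) h0
  obtain ⟨J, hJodd, hJ⟩ := D.exists_exponent hx₀.1
  obtain ⟨q, rfl⟩ := hJodd
  have hcm : D.c * m * D.c⁻¹ = m ^ (4 * (q * q + q) + 1) := by
    have h2 : D.c * (m₀ * m * m₀⁻¹) * D.c⁻¹ = x₀ * (x₀ * m * x₀⁻¹) * x₀⁻¹ := by
      calc D.c * (m₀ * m * m₀⁻¹) * D.c⁻¹ = D.c * m₀ * m * (D.c * m₀)⁻¹ := by group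
        _ = x₀ * x₀ * m * (x₀ * x₀)⁻¹ := by rw [h1]
        _ = _ := by group
    rw [D.N_comm hm₀ hm, mul_inv_cancel_right, hJ m hm, hJ _ (zpow_mem hm _), ← zpow_mul] at h2
    rw [h2]; congr 1; ring
  refine D.L_commute hx₀ h0 D.c_mem_L hm ?_
  have h3 : m ^ (4 * (q * q + q) + 1) * D.z * m = 1 := by
    rw [← hcm, ← h]; unfold z; group
  rw [mul_assoc, D.N_comm D.z_mem_N hm, ← mul_assoc, ← zpow_add_one] at h3
  refine D.odd_eq_one (zpow_mem (D.N_le_T hm) _) (o := 2 * (q * q + q) + 1) ⟨_, rfl⟩ ?_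
  rw [← zpow_mul, show 4 * (2 * (q * q + q) + 1) = (4 * (q * q + q) + 1 + 1) * 2 by ring, zpow_mul,
    eq_inv_of_mul_eq_one_left h3, D.z_inv, zpow_two, D.zz]

theorem S_metacyclic {x₀ : K} (hx₀ : x₀ ∈ D.S) (h0 : x₀ * x₀ ∉ D.N) :
    Cfsg.IsMetacyclic ↥D.S := by
  have hx₀L : x₀ ∉ D.L := fun h1 => h0 (D.L_sq h1)
  haveI hn : (D.N.subgroupOf D.S).Normal :=
    ⟨fun n hn g => mem_subgroupOf.2 (D.conj_mem_N g.2.1 (mem_subgroupOf.1 hn))⟩
  haveI := D.N_cyclic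
  refine ⟨D.N.subgroupOf D.S, hn, isCyclic_of_injective
    (subgroupOfEquivOfLe D.N_le_S).toMonoidHom (subgroupOfEquivOfLe D.N_le_S).injective, ?_⟩
  rw [isCyclic_iff_exists_zpowers_eq_top]
  refine ⟨((⟨x₀, hx₀⟩ : D.S) : D.S ⧸ D.N.subgroupOf D.S), eq_top_iff.2 fun v _ => ?_⟩
  induction v using QuotientGroup.induction_on with
  | _ s =>
  have key : ∃ i : ℤ, (x₀ ^ i)⁻¹ * (s : K) ∈ D.N := by
    obtain ⟨m, hm, h | h⟩ := D.L_cases (D.mul_mem_L hx₀ hx₀L hx₀ hx₀L)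
    · exact absurd (h ▸ hm) h0
    have hL : ∀ l ∈ D.L, ∃ i : ℤ, (x₀ ^ i)⁻¹ * l ∈ D.N := by
      intro l hl
      obtain ⟨k, hk, rfl | rfl⟩ := D.L_cases hl
      · exact ⟨0, by simpa using hk⟩
      · refine ⟨2, ?_⟩
        rw [zpow_two, h, mul_inv_rev, mul_assoc, inv_mul_cancel_left]
        exact mul_mem (inv_mem hm) hk
    by_cases hsL : (s : K) ∈ D.L
    · exact hL _ hsL
    · obtain ⟨i, hi⟩ := hL _ (D.inv_mul_mem_L hx₀ hx₀L s.2 hsL)
      refine ⟨1 + i, ?_⟩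
      rwa [zpow_add, zpow_one, mul_inv_rev, mul_assoc]
  obtain ⟨i, hi⟩ := key
  exact mem_zpowers_iff.2 ⟨i, by
    rw [← QuotientGroup.mk_zpow, QuotientGroup.eq, mem_subgroupOf]; simpa using hi⟩

/-- A quaternion group does not embed in `S`. -/
theorem no_quaternion {x₀ : K} (hx₀ : x₀ ∈ D.S) (h0 : x₀ * x₀ ∉ D.N)
    (f : QuaternionGroup 2 →* K) (hf : Function.Injective f) (hS : ∀ v, f v ∈ D.S) : False := by
  set p := f (QuaternionGroup.a 1) with hp
  set q := f (QuaternionGroup.xa 0) with hq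
  have h4 : ∀ v : QuaternionGroup 2, v * v * (v * v) = 1 := by decide
  have hz4 : ∀ v : QuaternionGroup 2, (f v) ^ (4 : ℤ) = 1 := fun v => by
    rw [show (4 : ℤ) = 2 * 2 by rfl, zpow_mul, zpow_two, zpow_two, ← map_mul, ← map_mul, h4, map_one]
  have hpq : p * q ≠ q * p := by
    rw [hp, hq, ← map_mul, ← map_mul]; exact fun h => absurd (hf h) (by decide)
  have hsame1 : p * p = q * q := by
    rw [hp, hq, ← map_mul, ← map_mul]; congr 1
  have hsame2 : p * q * (p * q) = p * p := by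
    rw [hp, hq, ← map_mul, ← map_mul, ← map_mul]; congr 1
  have hpS : p ∈ D.S := hS _
  have hqS : q ∈ D.S := hS _
  have hpL : p ∈ D.L := by
    by_contra h
    have hpN : p * p ∉ D.N := fun h1 => h ((D.sq_mem_iff hx₀ h0 hpS).1 h1)
    have hqL : q ∉ D.L := fun h1 => hpN (hsame1 ▸ D.L_sq h1)
    exact hpN (hsame2 ▸ D.L_sq (D.mul_mem_L hpS h hqS hqL))
  have hqL : q ∈ D.L := (D.sq_mem_iff hx₀ h0 hqS).1 (hsame1 ▸ D.L_sq hpL)
  obtain ⟨k, hk, h1 | h1⟩ := D.L_cases hpL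
  · exact hpq (D.L_commute hx₀ h0 hqL (n := p) (by rw [h1]; exact hk) (hz4 _)).symm
  obtain ⟨k', hk', h2 | h2⟩ := D.L_cases hqL
  · exact hpq (D.L_commute hx₀ h0 hpL (n := q) (by rw [h2]; exact hk') (hz4 _))
  · have hr : p * q ∈ D.N := by
      rw [h1, h2, show D.c * k * (D.c * k') = D.c * k * D.c⁻¹ * (D.c * D.c) * k' by group]
      exact mul_mem (mul_mem (D.conj_mem_N D.c_memT hk) D.z_mem_N) hk'
    have h3 := D.L_commute hx₀ h0 hpL hr (by rw [hp, hq, ← map_mul]; exact hz4 _)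
    exact hpq (mul_left_cancel (by rw [← mul_assoc, ← mul_assoc]; rw [← mul_assoc] at h3; exact h3))

/-- A self-centralizing homocyclic subgroup with an automorphism of odd order is `S`, of order
sixteen. -/
theorem homocyclic_eq {x₀ : K} (hx₀ : x₀ ∈ D.S) (h0 : x₀ * x₀ ∉ D.N) (U : Subgroup K)
    (hUS : U ≤ D.S) (hcen : ∀ s ∈ D.S, (∀ v ∈ U, v * s = s * v) → s ∈ U) {n : ℕ} (a b : K)
    (ha : a ∈ U) (hb : b ∈ U) (hab : a * b = b * a) (hao : orderOf a = 2 ^ n)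
    (hbo : orderOf b = 2 ^ n) (hindep : ∀ i j : ℤ, a ^ i = b ^ j → a ^ i = 1)
    (hgen : ∀ v ∈ U, ∃ i j : ℤ, v = a ^ i * b ^ j) (hn : 1 ≤ n) :
    n = 2 ∧ U = D.S := by
  have hn2 : n ≠ 1 := by
    intro h1
    subst h1
    rw [pow_one] at hao hbo
    have ha2 : a * a = 1 := by rw [← pow_two, ← hao, pow_orderOf_eq_one]
    have hb2 : b * b = 1 := by rw [← pow_two, ← hbo, pow_orderOf_eq_one]
    have hu2 : ∀ v ∈ U, v * v = 1 := by
      intro v hv
      obtain ⟨i, j, rfl⟩ := hgen v hv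
      have hc : Commute (a ^ i) (b ^ j) := (show Commute a b from hab).zpow_zpow i j
      rw [show a ^ i * b ^ j * (a ^ i * b ^ j) = a ^ i * (b ^ j * a ^ i) * b ^ j by group, ← hc.eq,
        show a ^ i * (a ^ i * b ^ j) * b ^ j = a ^ i * a ^ i * (b ^ j * b ^ j) by group,
        ← (Commute.refl a).mul_zpow, ← (Commute.refl b).mul_zpow, ha2, hb2, one_zpow, one_zpow,
        one_mul]
    refine D.c_sq_ne (hu2 D.c (hcen D.c D.c_mem fun v hv => ?_))
    have hvL : v ∈ D.L := (D.sq_mem_iff hx₀ h0 (hUS hv)).1 (by rw [hu2 v hv]; exact one_mem _)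
    obtain ⟨m, hm, rfl | rfl⟩ := D.L_cases hvL
    · refine (D.L_commute hx₀ h0 D.c_mem_L hm ?_).symm
      rw [show (4 : ℤ) = 2 * 2 by rfl, zpow_mul, zpow_two, zpow_two, hu2 _ hv, one_mul]
    · exact ((Commute.refl D.c).mul_left
        (show Commute m D.c from (D.c_commute_of_sq hx₀ h0 hm (hu2 _ hv)).symm)).eq
  obtain ⟨k, rfl⟩ := Nat.exists_eq_add_of_le (show 2 ≤ n by omega)
  -- choose a pair `q, r` of generators with `q ∉ L`
  obtain ⟨q, r, hqU, hrU, hqr, hqL, hqo, hro, hind⟩ : ∃ q r : K, q ∈ U ∧ r ∈ U ∧ q * r = r * q ∧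
      q ∉ D.L ∧ orderOf q = 2 ^ (2 + k) ∧ orderOf r = 2 ^ (2 + k) ∧
      ∀ i j : ℤ, q ^ i = r ^ j → q ^ i = 1 := by
    by_cases haL : a ∈ D.L
    · by_cases hbL : b ∈ D.L
      · exfalso
        have hP : ∀ v : K, v ∈ D.L → orderOf v = 2 ^ (2 + k) → v ^ (2 ^ (1 + k) : ℕ) = D.z := by
          intro v hv hvo
          refine D.N_invol ?_ ?_ ?_
          · rw [show 2 ^ (1 + k) = 2 * 2 ^ k by rw [pow_add, pow_one], pow_mul, pow_two]
            exact pow_mem (D.L_sq hv) _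
          · rw [← pow_add, show 2 ^ (1 + k) + 2 ^ (1 + k) = 2 ^ (2 + k) by ring, ← hvo,
              pow_orderOf_eq_one]
          · intro h1
            have h2 := orderOf_dvd_of_pow_eq_one h1
            rw [hvo, Nat.pow_dvd_pow_iff_le_right (by norm_num)] at h2
            omega
        refine D.z_ne ?_
        rw [← hP a haL hao, ← zpow_natCast]
        refine hindep _ ((2 ^ (1 + k) : ℕ) : ℤ) ?_
        rw [zpow_natCast, zpow_natCast, hP a haL hao, hP b hbL hbo]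
      · refine ⟨b, a, hb, ha, hab.symm, hbL, hbo, hao, fun i j h => ?_⟩
        rw [h]; exact hindep j i h.symm
    · exact ⟨a, b, ha, hb, hab, haL, hao, hbo, hindep⟩
  have hqS := hUS hqU
  have hrS := hUS hrU
  -- `r` times a power of `q` lies in `N`
  obtain ⟨i, hiN⟩ : ∃ i : ℤ, r * q ^ i ∈ D.N := by
    have hq2L : q * q ∈ D.L := D.mul_mem_L hqS hqL hqS hqL
    have hq2N : q * q ∉ D.N := fun h => hqL ((D.sq_mem_iff hx₀ h0 hqS).1 h)
    obtain ⟨m, hm, h | h⟩ := D.L_cases hq2L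
    · exact absurd (h ▸ hm) hq2N
    have hcase : ∀ l ∈ D.L, l ∈ D.N ∨ l * (q * q) ∈ D.N := by
      intro l hl
      obtain ⟨k', hk', rfl | rfl⟩ := D.L_cases hl
      · exact Or.inl hk'
      · refine Or.inr ?_
        rw [h, show D.c * k' * (D.c * m) = D.c * k' * D.c⁻¹ * (D.c * D.c) * m by group]
        exact mul_mem (mul_mem (D.conj_mem_N D.c_memT hk') D.z_mem_N) hm
    by_cases hrL : r ∈ D.L
    · rcases hcase r hrL with h1 | h1
      · exact ⟨0, by simpa using h1⟩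
      · exact ⟨2, by rw [zpow_two]; exact h1⟩
    · rcases hcase _ (D.mul_mem_L hrS hrL hqS hqL) with h1 | h1
      · exact ⟨1, by simpa using h1⟩
      · refine ⟨3, ?_⟩
        rw [show q ^ (3 : ℤ) = q * (q * q) by
          rw [show (3 : ℤ) = 1 + 2 by rfl, zpow_add, zpow_one, zpow_two], ← mul_assoc]
        exact h1
  set r' := r * q ^ i with hr'
  have hc : Commute r (q ^ i) := (show Commute r q from hqr.symm).zpow_right i
  have hpw : ∀ e : ℤ, r' ^ e = r ^ e * q ^ (i * e) := fun e => by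
    rw [hr', hc.mul_zpow, ← zpow_mul]
  have hr'1 : ∀ e : ℤ, r' ^ e = 1 → r ^ e = 1 := by
    intro e h1
    have h2 : r ^ e = q ^ (-(i * e)) := by
      rw [hpw] at h1
      rw [zpow_neg, eq_inv_of_mul_eq_one_left h1]
    rw [h2]
    exact hind _ e h2.symm
  have hr'o : orderOf r' = 2 ^ (2 + k) := by
    refine Nat.dvd_antisymm (orderOf_dvd_of_pow_eq_one ?_) ?_
    · rw [← zpow_natCast, hpw, zpow_natCast, mul_comm, zpow_mul, zpow_natCast, ← hro,
        pow_orderOf_eq_one, one_mul, hro, ← hqo, pow_orderOf_eq_one, one_zpow]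
    · rw [← hro]
      refine orderOf_dvd_of_pow_eq_one ?_
      rw [← zpow_natCast]
      exact hr'1 _ (by rw [zpow_natCast, pow_orderOf_eq_one])
  have hk0 : k = 0 := by
    by_contra hk1
    obtain ⟨k', rfl⟩ : ∃ k', k = k' + 1 := ⟨k - 1, by omega⟩
    have hord : ∀ v : K, v ∈ D.S → orderOf v = 2 ^ (2 + (k' + 1)) →
        v ^ (2 ^ (2 + k') : ℕ) = D.z := by
      intro v hv hvo
      have h4 : v ^ (4 : ℕ) ∈ D.N := by
        have h2 : v * v ∈ D.L := by
          by_cases hvL : v ∈ D.L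
          · exact D.N_le_L (D.L_sq hvL)
          · exact D.mul_mem_L hv hvL hv hvL
        rw [show (4 : ℕ) = 2 * 2 by rfl, pow_mul, pow_two, pow_two]
        exact D.L_sq h2
      refine D.N_invol ?_ ?_ ?_
      · rw [show 2 ^ (2 + k') = 4 * 2 ^ k' by rw [pow_add]; norm_num, pow_mul]
        exact pow_mem h4 _
      · rw [← pow_add, show 2 ^ (2 + k') + 2 ^ (2 + k') = 2 ^ (2 + (k' + 1)) by ring, ← hvo,
          pow_orderOf_eq_one]
      · intro h1
        have h2 := orderOf_dvd_of_pow_eq_one h1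
        rw [hvo, Nat.pow_dvd_pow_iff_le_right (by norm_num)] at h2
        omega
    have h1 := hord r' (D.N_le_S hiN) hr'o
    rw [← zpow_natCast, hpw, zpow_natCast, ← hord q hqS hqo] at h1
    have h2 : q ^ (((2 ^ (2 + k') : ℕ) : ℤ) - i * ((2 ^ (2 + k') : ℕ) : ℤ)) =
        r ^ ((2 ^ (2 + k') : ℕ) : ℤ) := by
      rw [zpow_sub, zpow_natCast, zpow_natCast, ← h1, mul_inv_cancel_right]
    have h3 := hind _ _ h2
    rw [h3, zpow_natCast] at h2
    have h4 := orderOf_dvd_of_pow_eq_one h2.symm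
    rw [hro, Nat.pow_dvd_pow_iff_le_right (by norm_num)] at h4
    omega
  subst hk0
  refine ⟨rfl, ?_⟩
  simp only [Nat.add_zero] at hqo hro hr'o
  have hr4 : r' ^ (4 : ℕ) = 1 := by rw [← hr'o.trans (by norm_num : (2 : ℕ) ^ 2 = 4), pow_orderOf_eq_one]
  have hr2 : r' * r' ≠ 1 := fun h1 => by
    have := orderOf_dvd_of_pow_eq_one (show r' ^ 2 = 1 by rw [pow_two, h1])
    rw [hr'o] at this
    norm_num at this
  have hq4 : q ^ (4 : ℕ) = 1 := by rw [← hqo.trans (by norm_num : (2 : ℕ) ^ 2 = 4), pow_orderOf_eq_one]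
  have hr'q : q⁻¹ * r' * q = r' := by
    have h1 : Commute r' q := (show Commute r q from hqr.symm).mul_left (Commute.zpow_self q i)
    rw [mul_assoc, h1.eq, inv_mul_cancel_left]
  set e' := D.psi q with he'
  have he'N : e' ∈ D.N := D.psi_mem hqS.1
  have he'ns : ¬ D.Sq e' := fun h => hqL ⟨hqS, h⟩
  obtain ⟨J, hJodd, hJ⟩ := D.exists_exponent ((D.T : Subgroup K).inv_mem hqS.1)
  simp only [inv_inv] at hJ
  obtain ⟨j, hj⟩ : ∃ j : ℤ, J = 4 * j + 1 := by
    obtain ⟨J', rfl⟩ := hJodd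
    rcases Int.even_or_odd' J' with ⟨j, rfl | rfl⟩
    · exact ⟨j, by ring⟩
    · exfalso
      have h1 := hJ r' hiN
      rw [hr'q] at h1
      have h2 : r' ^ (2 * (2 * j + 1)) = 1 := by
        have h3 : r' ^ (2 * (2 * j + 1) + 1) * r'⁻¹ = 1 := by rw [← h1, mul_inv_cancel]
        rwa [zpow_add_one, mul_inv_cancel_right] at h3
      rw [zpow_mul, zpow_two] at h2
      exact hr2 (D.odd_eq_one ((D.T : Subgroup K).mul_mem (D.N_le_T hiN) (D.N_le_T hiN)) ⟨j, rfl⟩ h2)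
  have he4 : e' ^ (4 : ℤ) = 1 := by
    have htq : D.t * q * D.t = q * e' := by rw [he', psi, mul_inv_cancel_left]
    have h1 : (q * e') ^ (4 : ℕ) = 1 := by
      rw [← htq]
      calc (D.t * q * D.t) ^ (4 : ℕ) = (D.t * q * D.t⁻¹) ^ (4 : ℕ) := by rw [D.t_inv]
        _ = 1 := by rw [conj_pow, hq4, mul_one, mul_inv_cancel]
    have hsq : q * e' * (q * e') = q * q * e' ^ (J + 1) := by
      rw [zpow_add_one, ← hJ e' he'N]; group
    set w := e' ^ (J + 1) with hw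
    have hwN : w ∈ D.N := zpow_mem he'N _
    have h2 : q ^ (4 : ℕ) * (w ^ (J * J) * w) = 1 := by
      rw [← h1, show (q * e') ^ (4 : ℕ) = q * e' * (q * e') * (q * e' * (q * e')) by
        simp [pow_succ, mul_assoc], hsq, zpow_mul, ← hJ _ hwN, ← hJ _ (D.conj_mem_N' hqS.1 hwN)]
      simp [pow_succ, mul_assoc]
    rw [hq4, one_mul, ← zpow_add_one, hw, ← zpow_mul] at h2
    refine D.odd_eq_one ((D.T : Subgroup K).zpow_mem (D.N_le_T he'N) _)
      (o := (2 * j + 1) * (8 * (j * j) + 4 * j + 1)) ?_ ?_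
    · exact Odd.mul ⟨j, rfl⟩ ⟨4 * (j * j) + 2 * j, by ring⟩
    · rw [← zpow_mul, ← h2, hj]; congr 1; ring
  have hNU : D.N ≤ U := by
    intro v hv
    have hr'ns : ¬ D.Sq r' := by
      rintro ⟨m, hm, hmr⟩
      refine hr2 ?_
      obtain ⟨l, rfl⟩ := D.gen_of_not_sq he'N he'ns m hm
      rw [← hmr, ← zpow_add, ← zpow_add, show l + l + (l + l) = 4 * l by ring, zpow_mul, he4, one_zpow]
    obtain ⟨l, rfl⟩ := D.gen_of_not_sq hiN hr'ns v hv
    exact zpow_mem (mul_mem hrU (zpow_mem hqU i)) l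
  refine le_antisymm hUS fun s hs => ?_
  have hL : ∀ l ∈ D.L, l ∈ U := by
    intro l hl
    obtain ⟨m, hm, rfl | rfl⟩ := D.L_cases hl
    · exact hNU hm
    · obtain ⟨m', hm', h | h⟩ := D.L_cases (D.mul_mem_L hqS hqL hqS hqL)
      · exact absurd ((D.sq_mem_iff hx₀ h0 hqS).1 (h ▸ hm')) hqL
      · rw [show D.c = q * q * m'⁻¹ by rw [h, mul_inv_cancel_right]]
        exact mul_mem (mul_mem (mul_mem hqU hqU) (inv_mem (hNU hm'))) (hNU hm)
  by_cases hsL : s ∈ D.L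
  · exact hL s hsL
  · have := mul_mem hqU (hL _ (D.inv_mul_mem_L hqS hqL hs hsL))
    rwa [mul_inv_cancel_left] at this

theorem exists_homocyclic {x₀ : K} (hx₀ : x₀ ∈ D.S) (h0 : x₀ * x₀ ∉ D.N) :
    Nonempty (↥(D.sylowA : Subgroup ↥D.A) ≃* Multiplicative (ZMod (2 ^ 2) × ZMod (2 ^ 2))) := by
  classical
  haveI : Fact (Nat.Prime 2) := ⟨Nat.prime_two⟩
  have hnc := D.no_complement
  by_contra hno
  refine hnc (CfsgLib.Involutions.hasNormalPComplement_of_centric D.sylowA ?_)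
  intro U hU y hy hyc u hu
  by_contra huy
  apply hno
  have hUp : IsPGroup 2 U := D.sylowA.2.to_le hU.1
  set α := U.normalizerMonoidHom ⟨y, hy⟩ with hα
  have hαA : ¬ IsPGroup 2 (MulAut U) := by
    intro hA
    obtain ⟨j, hj⟩ := hA α
    refine huy ?_
    have h1 : orderOf α ∣ 2 ^ j := orderOf_dvd_of_pow_eq_one hj
    have h2 : orderOf α ∣ orderOf y := by
      rw [hα]
      have h3 := orderOf_map_dvd U.normalizerMonoidHom (⟨y, hy⟩ : normalizer (U : Set ↥D.A))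
      rwa [Subgroup.orderOf_mk] at h3
    have h4 : α = 1 := orderOf_eq_one_iff.1
      (Nat.eq_one_of_dvd_coprimes (hyc.pow_right j) h2 h1)
    have h5 : (⟨y, hy⟩ : normalizer (U : Set ↥D.A)) ∈ U.normalizerMonoidHom.ker := h4
    rw [normalizerMonoidHom_ker, mem_subgroupOf, mem_centralizer_iff] at h5
    exact (h5 u hu).symm
  -- the inclusion of `U` into `S`
  let j : U →* ↥D.S :=
    (D.A.subtype.comp U.subtype).codRestrict D.S fun v => D.mem_sylowA.1 (hU.1 v.2)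
  have hj : Function.Injective j := fun v w h =>
    Subtype.ext (Subtype.ext (congrArg (fun x : ↥D.S => (x : K)) h))
  have hUm : Cfsg.IsMetacyclic ↥U := by
    have hr := CfsgLib.Fusion.MetacyclicTwo.isMetacyclic_subgroup (D.S_metacyclic hx₀ h0) j.range
    exact CfsgLib.OddOrder.isMetacyclic_of_surjective (MonoidHom.ofInjective hj).symm.toMonoidHom
      (MonoidHom.ofInjective hj).symm.surjective hr
  obtain ⟨r, β, hr, hr2, hβ, hβ1⟩ := CfsgLib.PGroups.MetacyclicTwoAut.exists_odd_prime_aut hαA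
  haveI := Fact.mk hr
  rcases CfsgLib.PGroups.MetacyclicTwoAut.quaternion_or_homocyclic hUp hUm hr2 hβ hβ1 with
    ⟨⟨e⟩⟩ | ⟨n, ⟨e⟩⟩
  · exfalso
    exact D.no_quaternion hx₀ h0 ((D.A.subtype.comp U.subtype).comp e.symm.toMonoidHom)
      ((D.A.subtype_injective.comp U.subtype_injective).comp e.symm.injective)
      (fun v => D.mem_sylowA.1 (hU.1 (e.symm v).2))
  · let Uk : Subgroup K := U.map D.A.subtype
    let f : Multiplicative (ZMod (2 ^ n)) × Multiplicative (ZMod (2 ^ n)) →* K :=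
      (D.A.subtype.comp U.subtype).comp e.symm.toMonoidHom
    have hfinj : Function.Injective f :=
      (D.A.subtype_injective.comp U.subtype_injective).comp e.symm.injective
    have hn1 : 1 ≤ n := by
      by_contra h
      obtain rfl : n = 0 := by omega
      refine huy ?_
      have h1 : (⟨u, hu⟩ : U) = 1 := e.injective (by
        haveI : Subsingleton (ZMod (2 ^ 0)) := inferInstanceAs (Subsingleton (ZMod 1))
        exact Subsingleton.elim _ _)
      rw [show u = 1 from congrArg Subtype.val h1]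
      exact Commute.one_right y
    set g := Multiplicative.ofAdd (1 : ZMod (2 ^ n)) with hg
    have hgo : orderOf g = 2 ^ n := by
      rw [hg, orderOf_ofAdd_eq_addOrderOf, ZMod.addOrderOf_one]
    have hfo : ∀ v, orderOf (f v) = orderOf v := fun v => orderOf_injective f hfinj v
    have hkey : ∀ (s : K), s ∈ D.S → (∀ v ∈ Uk, v * s = s * v) → s ∈ Uk := by
      intro s hs hcomm
      refine ⟨⟨s, hs.2⟩, hU.2 _ (D.mem_sylowA.2 hs) ?_, rfl⟩
      rw [mem_centralizer_iff]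
      intro v hv
      exact Subtype.ext (hcomm v ⟨v, hv, rfl⟩)
    obtain ⟨rfl, hUk⟩ := D.homocyclic_eq hx₀ h0 Uk (by
        rintro _ ⟨v, hv, rfl⟩; exact D.mem_sylowA.1 (hU.1 hv)) hkey (n := n) (f (g, 1)) (f (1, g))
      ⟨_, (e.symm (g, 1)).2, rfl⟩ ⟨_, (e.symm (1, g)).2, rfl⟩
      (by rw [← map_mul, ← map_mul, mul_comm])
      (by rw [hfo, Prod.orderOf, orderOf_one, Nat.lcm_one_right]; exact hgo)
      (by rw [hfo, Prod.orderOf, orderOf_one, Nat.lcm_one_left]; exact hgo)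
      (by
        intro i j h
        rw [← map_zpow, ← map_zpow] at h
        have h1 : g ^ i = 1 := by simpa using congrArg Prod.fst (hfinj h)
        rw [← map_zpow, show ((g, (1 : Multiplicative (ZMod (2 ^ n)))) : _ × _) ^ i = (1, 1) from
          Prod.ext (by simpa using h1) (by simp)]
        exact map_one f)
      (by
        rintro _ ⟨v, hv, rfl⟩
        refine ⟨((e ⟨v, hv⟩).1.toAdd.val : ℤ), ((e ⟨v, hv⟩).2.toAdd.val : ℤ), ?_⟩
        rw [zpow_natCast, zpow_natCast, ← map_pow, ← map_pow, ← map_mul]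
        have h1 : ∀ x : Multiplicative (ZMod (2 ^ n)), g ^ x.toAdd.val = x := fun x => by
          rw [hg, ← ofAdd_nsmul, nsmul_one, ZMod.natCast_zmod_val]; rfl
        have h2 : ((g, (1 : Multiplicative (ZMod (2 ^ n)))) ^ (e ⟨v, hv⟩).1.toAdd.val *
            ((1 : Multiplicative (ZMod (2 ^ n))), g) ^ (e ⟨v, hv⟩).2.toAdd.val) = e ⟨v, hv⟩ :=
          Prod.ext (by simp [h1]) (by simp [h1])
        rw [h2]
        show (v : K) = D.A.subtype (U.subtype (e.symm (e ⟨v, hv⟩)))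
        rw [e.symm_apply_apply]; rfl)
      hn1
    have hUeq : U = (D.sylowA : Subgroup ↥D.A) := by
      refine le_antisymm hU.1 fun v hv => ?_
      have h1 : (v : K) ∈ Uk := hUk ▸ D.mem_sylowA.1 hv
      obtain ⟨w, hw, hwv⟩ := h1
      rwa [← D.A.subtype_injective hwv]
    exact ⟨(MulEquiv.subgroupCongr hUeq.symm).trans
      (e.trans (MulEquiv.prodMultiplicative _ _).symm)⟩

end Setup

end CfsgLib.SemiCyc4
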