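import Cfsg.Agent.Lib.Involutions.CyclicFourFixed.Fused
import Cfsg.Agent.Lib.Involutions.CyclicFourFixed.Metacyclic
import Cfsg.Agent.Lib.Base.Cores
import Cfsg.Agent.S0949

/-!
A perfect group with an outer involution whose centralizer has cyclic Sylow 2-subgroups of order
four has no four subgroup.
-/

set_option autoImplicit false
set_option linter.style.haveILetI false

namespace CfsgLib.SemiCyc4

open Subgroup

namespace Setup

variable {K : Type*} [Group K] [Finite K] (D : Setup K)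

theorem not_homocyclic_sixteen
    (e : ↥(D.sylowA : Subgroup ↥D.A) ≃* Multiplicative (ZMod (2 ^ 2) × ZMod (2 ^ 2))) : False := by
  haveI : Fact (Nat.Prime 2) := ⟨Nat.prime_two⟩
  haveI : (Cfsg.oddCore ↥D.A).Normal := by
    unfold Cfsg.oddCore
    infer_instance
  set O := Cfsg.oddCore ↥D.A with hO
  set π := QuotientGroup.mk' O with hπ
  set P' := D.sylowA.mapSurjective (QuotientGroup.mk'_surjective O) with hP'
  have hinj : Function.Injective (π.subgroupMap (D.sylowA : Subgroup ↥D.A)) := by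
    rw [injective_iff_map_eq_one]
    intro x hx
    have h1 : (x : ↥D.A) ∈ O := by
      rw [← QuotientGroup.eq_one_iff]
      exact congrArg Subtype.val hx
    obtain ⟨k, hk⟩ := D.sylowA.2 x
    have h2 : orderOf (x : ↥D.A) ∣ 2 ^ k := orderOf_dvd_of_pow_eq_one (congrArg Subtype.val hk)
    have h3 : orderOf (x : ↥D.A) ∣ Nat.card O := by
      rw [← orderOf_mk (x : ↥D.A) h1]; exact orderOf_dvd_natCard _
    have hodd : Odd (Nat.card O) := CfsgLib.Base.odd_card_oddCore _
    exact Subtype.ext (orderOf_eq_one_iff.1 (Nat.eq_one_of_dvd_coprimes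
      ((Nat.coprime_two_right.2 hodd).pow_right k) h3 h2))
  let e' : ↥(P' : Subgroup (↥D.A ⧸ O)) ≃* Multiplicative (ZMod (2 ^ 2) × ZMod (2 ^ 2)) :=
    (MulEquiv.ofBijective _ ⟨hinj, π.subgroupMap_surjective _⟩).symm.trans e
  obtain ⟨hPn, -, hidx⟩ := Cfsg.Agent.S0949.result P' 2 le_rfl e' (fun M hM hodd => by
    haveI := hM
    have h := CfsgLib.Base.le_oddCore (N := M) hodd
    rwa [Cfsg.oddCore, show Cfsg.pPrimeCore 2 (↥D.A ⧸ O) = ⊥ from
      CfsgLib.Base.pPrimeCore_quotient_pPrimeCore 2 ↥D.A, le_bot_iff] at h)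
  haveI := hPn
  haveI : Group.IsSolvable ↥(P' : Subgroup (↥D.A ⧸ O)) := by
    haveI := (P'.2).isNilpotent
    infer_instance
  haveI : Group.IsSolvable ((↥D.A ⧸ O) ⧸ (P' : Subgroup (↥D.A ⧸ O))) := by
    rcases hidx with h | h
    · haveI : Subsingleton ((↥D.A ⧸ O) ⧸ (P' : Subgroup (↥D.A ⧸ O))) :=
        Finite.card_le_one_iff_subsingleton.1 (by rw [← Subgroup.index_eq_card, h])
      haveI : IsCyclic ((↥D.A ⧸ O) ⧸ (P' : Subgroup (↥D.A ⧸ O))) := isCyclic_of_subsingleton
      letI := IsCyclic.commGroup (α := (↥D.A ⧸ O) ⧸ (P' : Subgroup (↥D.A ⧸ O)))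
      exact Group.isSolvable_of_comm fun a b => mul_comm a b
    · haveI : Fact (Nat.Prime 3) := ⟨Nat.prime_three⟩
      haveI : IsCyclic ((↥D.A ⧸ O) ⧸ (P' : Subgroup (↥D.A ⧸ O))) :=
        isCyclic_of_prime_card (p := 3) (by rw [← Subgroup.index_eq_card, h])
      letI := IsCyclic.commGroup (α := (↥D.A ⧸ O) ⧸ (P' : Subgroup (↥D.A ⧸ O)))
      exact Group.isSolvable_of_comm fun a b => mul_comm a b
  haveI : Group.IsSolvable (↥D.A ⧸ O) :=
    Group.isSolvable_of_ker_le_range (P' : Subgroup (↥D.A ⧸ O)).subtype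
      (QuotientGroup.mk' (P' : Subgroup (↥D.A ⧸ O)))
      (by rw [QuotientGroup.ker_mk', range_subtype])
  have hperf : commutator ↥D.A = ⊤ := by
    refine map_injective D.A.subtype_injective ?_
    rw [_root_.commutator_def, map_commutator, ← MonoidHom.range_eq_map, range_subtype, D.perfect]
  have hq : commutator (↥D.A ⧸ O) = ⊤ := by
    rw [_root_.commutator_def,
      ← map_top_of_surjective (QuotientGroup.mk' O) (QuotientGroup.mk'_surjective O),
      ← map_commutator, ← _root_.commutator_def, hperf]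
  have htriv : Subsingleton (↥D.A ⧸ O) := by
    by_contra hns
    haveI : Nontrivial (↥D.A ⧸ O) := not_subsingleton_iff_nontrivial.1 hns
    exact (Group.IsSolvable.commutator_lt_top_of_nontrivial (↥D.A ⧸ O)).ne hq
  have hone : (⟨D.c, D.c_memA⟩ : ↥D.A) ∈ O :=
    (QuotientGroup.eq_one_iff _).1 (Subsingleton.elim _ _)
  have h1 : orderOf (⟨D.c, D.c_memA⟩ : ↥D.A) ∣ Nat.card O := by
    rw [← orderOf_mk (⟨D.c, D.c_memA⟩ : ↥D.A) hone]; exact orderOf_dvd_natCard _
  rw [orderOf_mk, D.c_ord] at h1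
  exact (Nat.not_even_iff_odd.2 (CfsgLib.Base.odd_card_oddCore ↥D.A))
    (even_iff_two_dvd.2 ((show 2 ∣ 4 by norm_num).trans h1))

/-- There is no four subgroup in `A`. -/
theorem eq_of_commuting {a b : K} (ha : a ∈ D.A) (hb : b ∈ D.A) (hab : a * b = b * a)
    (ha2 : a * a = 1) (hb2 : b * b = 1) (ha1 : a ≠ 1) (hb1 : b ≠ 1) : a = b := by
  haveI : Fact (Nat.Prime 2) := ⟨Nat.prime_two⟩
  by_contra hne
  by_cases hsq : ∀ x ∈ D.S, x * x ∈ D.N
  · have hpa : IsPGroup 2 (zpowers a) := by
      refine IsPGroup.of_card (n := 1) ?_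
      rw [Nat.card_zpowers, orderOf_eq_prime (by rw [pow_two, ha2]) ha1, pow_one]
    have hpb : IsPGroup 2 (zpowers b) := by
      refine IsPGroup.of_card (n := 1) ?_
      rw [Nat.card_zpowers, orderOf_eq_prime (by rw [pow_two, hb2]) hb1, pow_one]
    have hP : IsPGroup 2 (zpowers a ⊔ zpowers b : Subgroup K) := by
      refine hpa.to_sup_of_normal_right' hpb ((zpowers_le.2 ?_).trans (centralizer_le_normalizer _))
      rw [mem_centralizer_iff]
      intro v hv
      obtain ⟨i, rfl⟩ := mem_zpowers_iff.1 hv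
      exact ((show Commute b a from hab.symm).zpow_left i).eq
    obtain ⟨Q, hQ⟩ := hP.exists_le_sylow
    obtain ⟨g, hg⟩ := MulAction.exists_smul_eq K D.T Q
    have key : ∀ x : K, x ∈ zpowers a ⊔ zpowers b → x ∈ D.A → g⁻¹ * x * g ∈ D.S := by
      intro x hx hxA
      refine ⟨?_, D.normal.conj_mem' x hxA g⟩
      have h1 := hQ hx
      rw [← hg] at h1
      exact Transfer.mem_smul_sylow_iff.1 h1
    have haS := key a (mem_sup_left (mem_zpowers a)) ha
    have hbS := key b (mem_sup_right (mem_zpowers b)) hb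
    have hz : ∀ x : K, g⁻¹ * x * g ∈ D.S → x * x = 1 → x ≠ 1 → x = g * D.z * g⁻¹ := by
      intro x hx hx2 hx1
      have h2 : g⁻¹ * x * g * (g⁻¹ * x * g) = 1 := by
        rw [show g⁻¹ * x * g * (g⁻¹ * x * g) = g⁻¹ * (x * x) * g by group, hx2, mul_one,
          inv_mul_cancel]
      have h3 : g⁻¹ * x * g ≠ 1 := fun h => hx1 (by
        rw [show x = g * (g⁻¹ * x * g) * g⁻¹ by group, h, mul_one, mul_inv_cancel])
      rw [← D.N_invol (D.no_involution_of_sq hsq hx h2) h2 h3]
      group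
    exact hne ((hz a haS ha2 ha1).trans (hz b hbS hb2 hb1).symm)
  · push Not at hsq
    obtain ⟨x₀, hx₀, h0⟩ := hsq
    obtain ⟨e⟩ := D.exists_homocyclic hx₀ h0
    exact D.not_homocyclic_sixteen e

end Setup

variable {G : Type*} [Group G] [Finite G]

/-- A perfect group with an element of even order has no normal 2-complement. -/
theorem not_complement_of_perfect {A : Subgroup G} (hperf : ⁅A, A⁆ = A) {x : G} (hx : x ∈ A)
    (hx2 : 2 ∣ orderOf x) : ¬ Cfsg.HasNormalPComplement 2 ↥A := by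
  haveI : Fact (Nat.Prime 2) := ⟨Nat.prime_two⟩
  rintro ⟨P, M, hM, hcompl⟩
  haveI := hM
  have hnil : Group.IsNilpotent (↥A ⧸ M) :=
    IsPGroup.isNilpotent (IsPGroup.of_card (p := 2) (n := (Nat.card (P : Subgroup ↥A)).factorization 2) (by
      rw [← Subgroup.index_eq_card, hcompl.symm.index_eq_card]
      obtain ⟨k, hk⟩ := IsPGroup.iff_card.1 P.2
      rw [hk, Nat.Prime.factorization_pow Nat.prime_two, Finsupp.single_eq_same]))
  have hperf' : commutator ↥A = ⊤ := by
    refine map_injective A.subtype_injective ?_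
    rw [_root_.commutator_def, map_commutator, ← MonoidHom.range_eq_map, range_subtype, hperf]
  have hq : commutator (↥A ⧸ M) = ⊤ := by
    rw [_root_.commutator_def, ← map_top_of_surjective (QuotientGroup.mk' M) (QuotientGroup.mk'_surjective M),
      ← map_commutator, ← _root_.commutator_def, hperf']
  haveI : Group.IsSolvable (↥A ⧸ M) := inferInstance
  have htriv : Subsingleton (↥A ⧸ M) := by
    by_contra hns
    haveI : Nontrivial (↥A ⧸ M) := not_subsingleton_iff_nontrivial.1 hns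
    exact (Group.IsSolvable.commutator_lt_top_of_nontrivial (↥A ⧸ M)).ne hq
  have hone : (⟨x, hx⟩ : ↥A) ∈ M := (QuotientGroup.eq_one_iff _).1 (Subsingleton.elim _ _)
  have h1 : orderOf (⟨x, hx⟩ : ↥A) ∣ Nat.card M := by
    rw [← orderOf_mk (⟨x, hx⟩ : ↥A) hone]; exact orderOf_dvd_natCard _
  rw [orderOf_mk] at h1
  have h2 := P.not_dvd_index
  rw [hcompl.index_eq_card] at h2
  exact h2 (hx2.trans h1)

/-- An element of `A` fixed by an involution of `A`: then `A` has cyclic Sylow 2-subgroups. -/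
theorem not_mem_of_perfect {A : Subgroup G} (hperf : ⁅A, A⁆ = A) {t : G} (ht : orderOf t = 2)
    (htA : t ∈ A)
    (hC : ∀ R : Sylow 2 ↥(A ⊓ centralizer ({t} : Set G)), IsCyclic R ∧ Nat.card R = 4) : False := by
  haveI : Fact (Nat.Prime 2) := ⟨Nat.prime_two⟩
  set tA : ↥A := ⟨t, htA⟩ with htAdef
  have htA2 : orderOf tA = 2 := by rw [htAdef, orderOf_mk]; exact ht
  have htp : IsPGroup 2 (zpowers tA) := IsPGroup.of_card (n := 1) (by rw [Nat.card_zpowers, htA2, pow_one])
  obtain ⟨S, hS⟩ := htp.exists_le_sylow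
  have htS : tA ∈ (S : Subgroup ↥A) := hS (mem_zpowers _)
  have hsmall : ∀ P : Subgroup ↥A, IsPGroup 2 P → (∀ x ∈ P, x * tA = tA * x) → IsCyclic P := by
    intro P hP hPt
    let f : P →* ↥(A ⊓ centralizer ({t} : Set G)) :=
      (A.subtype.comp P.subtype).codRestrict _ fun x =>
        ⟨(x : ↥A).2, mem_centralizer_singleton_iff.2 (congrArg Subtype.val (hPt x x.2))⟩
    have hf : Function.Injective f := fun x y h =>
      Subtype.ext (Subtype.ext (congrArg (fun v : ↥(A ⊓ centralizer ({t} : Set G)) => (v : G)) h))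
    obtain ⟨R, hR⟩ := (hP.of_equiv (MonoidHom.ofInjective hf)).exists_le_sylow
    haveI := (hC R).1
    exact isCyclic_of_injective ((inclusion hR).comp f.rangeRestrict)
      ((inclusion_injective hR).comp (MonoidHom.rangeRestrict_injective_iff.2 hf))
  have htt : tA * tA = 1 := by rw [← pow_two, ← htA2, pow_orderOf_eq_one]
  have htA1 : tA ≠ 1 := fun h => by rw [h, orderOf_one] at htA2; omega
  haveI : Nontrivial (S : Subgroup ↥A) :=
    ⟨⟨⟨tA, htS⟩, 1, fun h => htA1 (congrArg Subtype.val h)⟩⟩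
  haveI := S.2.center_nontrivial
  have hZp : IsPGroup 2 (center (S : Subgroup ↥A)) := S.2.to_subgroup _
  obtain ⟨k, hk, hk2⟩ := hZp.nontrivial_iff_card.1 inferInstance
  obtain ⟨w, hw⟩ := exists_prime_orderOf_dvd_card' (G := center (S : Subgroup ↥A)) 2
    (by rw [hk2]; exact dvd_pow_self 2 hk.ne')
  set wA : ↥A := ((w : (S : Subgroup ↥A)) : ↥A) with hwA
  have hwo : orderOf wA = 2 := by rw [hwA, Subgroup.orderOf_coe, Subgroup.orderOf_coe]; exact hw
  have hwc : ∀ x ∈ (S : Subgroup ↥A), x * wA = wA * x := fun x hx =>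
    congrArg Subtype.val (mem_center_iff.1 w.2 ⟨x, hx⟩)
  set P := zpowers wA ⊔ zpowers tA with hP
  have hPS : P ≤ (S : Subgroup ↥A) :=
    sup_le (zpowers_le.2 (w : (S : Subgroup ↥A)).2) (zpowers_le.2 htS)
  have hPc : IsCyclic P := hsmall P (S.2.to_le hPS) fun x hx => by
    refine mem_centralizer_singleton_iff.1 ((sup_le ?_ ?_ : P ≤ centralizer ({tA} : Set ↥A)) hx)
    · exact zpowers_le.2 (mem_centralizer_singleton_iff.2 (hwc tA htS).symm)
    · exact zpowers_le.2 (mem_centralizer_singleton_iff.2 rfl)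
  have hwt : wA = tA := Setup.cyclic_involution_eq (P := P) (mem_sup_left (mem_zpowers _))
    (mem_sup_right (mem_zpowers _)) (by rw [← pow_two, ← hwo, pow_orderOf_eq_one]) htt
    (fun h => by rw [h, orderOf_one] at hwo; omega) htA1
  haveI : IsCyclic (S : Subgroup ↥A) := hsmall _ S.2 fun x hx => hwt ▸ hwc x hx
  refine not_complement_of_perfect hperf htA (ht ▸ dvd_rfl) ?_
  refine (Transfer.hasNormalPComplement_iff_forall_centralizing S).2 fun Q hQ g hg hcop => ?_
  haveI : IsCyclic Q := isCyclic_of_injective (inclusion hQ) (inclusion_injective hQ)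
  rw [mem_centralizer_iff]
  intro q hq
  exact (CfsgLib.Involutions.commute_of_cyclic (S.2.to_le hQ) (Nat.coprime_two_right.1 hcop)
    (fun a ha => (mem_normalizer_iff.1 hg a).1 ha) q hq).eq.symm

/-- A perfect group of even order with the Sylow data of the statement has no four subgroup. -/
theorem eq_of_commuting {A : Subgroup G} (hperf : ⁅A, A⁆ = A) {t : G} (ht : orderOf t = 2)
    (htN : t ∈ normalizer (A : Set G))
    (hC : ∀ R : Sylow 2 ↥(A ⊓ centralizer ({t} : Set G)), IsCyclic R ∧ Nat.card R = 4)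
    {a b : G} (ha : a ∈ A) (hb : b ∈ A) (hab : a * b = b * a)
    (ha2 : a * a = 1) (hb2 : b * b = 1) (ha1 : a ≠ 1) (hb1 : b ≠ 1) : a = b := by
  haveI : Fact (Nat.Prime 2) := ⟨Nat.prime_two⟩
  by_cases htA : t ∈ A
  · exact (not_mem_of_perfect hperf ht htA hC).elim
  set H : Subgroup G := A ⊔ zpowers t with hH
  have hAH : A ≤ H := le_sup_left
  have htH : t ∈ H := mem_sup_right (mem_zpowers t)
  have htt : t * t = 1 := by rw [← pow_two, ← ht, pow_orderOf_eq_one]
  have hHN : H ≤ normalizer (A : Set G) := sup_le le_normalizer (zpowers_le.2 htN)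
  set AH := A.subgroupOf H with hAHdef
  haveI hAn : AH.Normal := normal_subgroupOf_of_le_normalizer hHN
  set tH : ↥H := ⟨t, htH⟩ with htHdef
  have hcover : ∀ x : ↥H, x ∈ AH ∨ tH * x ∈ AH := by
    intro x
    have htop : zpowers tH ⊔ AH = ⊤ := by
      apply map_injective H.subtype_injective
      rw [Subgroup.map_sup, MonoidHom.map_zpowers, map_subgroupOf_eq_of_le hAH,
        ← MonoidHom.range_eq_map, range_subtype, sup_comm]
      rfl
    have hx : x ∈ AH ⊔ zpowers tH := by rw [sup_comm, htop]; exact mem_top x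
    exact mem_sup_zpowers_cases AH (show tH * tH ∈ AH by
      rw [show tH * tH = 1 from Subtype.ext htt]; exact one_mem _) hx
  have hperfH : ⁅AH, AH⁆ = AH := by
    apply map_injective H.subtype_injective
    rw [map_commutator, map_subgroupOf_eq_of_le hAH, hperf]
  have hsmall : ∀ P : Subgroup ↥H, P ≤ AH → (∀ x ∈ P, x * tH = tH * x) → IsPGroup 2 P →
      IsCyclic P ∧ Nat.card P ≤ 4 := by
    intro P hPA hPt hP
    let f : P →* ↥(A ⊓ centralizer ({t} : Set G)) :=
      (H.subtype.comp P.subtype).codRestrict _ fun x =>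
        ⟨mem_subgroupOf.1 (hPA x.2),
          mem_centralizer_singleton_iff.2 (congrArg Subtype.val (hPt x x.2))⟩
    have hf : Function.Injective f := fun x y h =>
      Subtype.ext (Subtype.ext (congrArg (fun v : ↥(A ⊓ centralizer ({t} : Set G)) => (v : G)) h))
    obtain ⟨R, hR⟩ := (hP.of_equiv (MonoidHom.ofInjective hf)).exists_le_sylow
    obtain ⟨hcyc, hcard⟩ := hC R
    haveI := hcyc
    have hinj : Function.Injective ((inclusion hR).comp f.rangeRestrict) :=
      (inclusion_injective hR).comp (MonoidHom.rangeRestrict_injective_iff.2 hf)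
    exact ⟨isCyclic_of_injective _ hinj, (Nat.card_le_card_of_injective _ hinj).trans hcard.le⟩
  obtain ⟨R₀⟩ : Nonempty (Sylow 2 ↥(A ⊓ centralizer ({t} : Set G))) := inferInstance
  obtain ⟨hcyc, hcard⟩ := hC R₀
  haveI := hcyc
  obtain ⟨r, hr⟩ := IsCyclic.exists_ofOrder_eq_natCard (α := ↥(R₀ : Subgroup ↥(A ⊓ centralizer ({t} : Set G))))
  rw [hcard] at hr
  set c : ↥H := ⟨((r : ↥(A ⊓ centralizer ({t} : Set G))) : G),
    hAH (r : ↥(A ⊓ centralizer ({t} : Set G))).2.1⟩ with hc
  have hct : c * tH = tH * c :=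
    Subtype.ext (mem_centralizer_singleton_iff.1 (r : ↥(A ⊓ centralizer ({t} : Set G))).2.2)
  have hco : orderOf c = 4 := by
    rw [hc, orderOf_mk, Subgroup.orderOf_coe, Subgroup.orderOf_coe]; exact hr
  have hto : orderOf tH = 2 := by rw [htHdef, orderOf_mk]; exact ht
  have hp : IsPGroup 2 (zpowers c ⊔ zpowers tH : Subgroup ↥H) := by
    refine (IsPGroup.of_card (n := 2) (by rw [Nat.card_zpowers, hco]; rfl)).to_sup_of_normal_right'
      (IsPGroup.of_card (n := 1) (by rw [Nat.card_zpowers, hto, pow_one]))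
      ((zpowers_le.2 ?_).trans (centralizer_le_normalizer _))
    rw [mem_centralizer_iff]
    intro v hv
    obtain ⟨i, rfl⟩ := mem_zpowers_iff.1 hv
    exact ((show Commute tH c from hct.symm).zpow_left i).eq
  obtain ⟨T, hT⟩ := hp.exists_le_sylow
  let D : Setup ↥H :=
    { A := AH
      T := T
      t := tH
      c := c
      normal := hAn
      perfect := hperfH
      t_ord := hto
      t_mem := hT (mem_sup_right (mem_zpowers _))
      t_not := fun h => htA (mem_subgroupOf.1 h)
      cover := hcover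
      c_memA := mem_subgroupOf.2 (r : ↥(A ⊓ centralizer ({t} : Set G))).2.1
      c_memT := hT (mem_sup_left (mem_zpowers _))
      c_comm := hct
      c_ord := hco
      small := hsmall }
  exact congrArg Subtype.val (D.eq_of_commuting (a := (⟨a, hAH ha⟩ : ↥H)) (b := ⟨b, hAH hb⟩)
    (mem_subgroupOf.2 ha) (mem_subgroupOf.2 hb) (Subtype.ext hab) (Subtype.ext ha2) (Subtype.ext hb2)
    (fun h => ha1 (congrArg Subtype.val h)) (fun h => hb1 (congrArg Subtype.val h)))

end CfsgLib.SemiCyc4
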