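import Cfsg.Agent.Lib.Involutions.CyclicFourFixed.Basic

/-!
The shape of the Sylow 2-subgroup: `N = ⟨e⟩` is cyclic and inverted by `t`, `S/N` has order four
and contains the image of `c`.
-/

set_option autoImplicit false
set_option linter.style.haveILetI false

namespace CfsgLib.SemiCyc4

open Subgroup
open scoped commutatorElement

namespace Setup

variable {K : Type*} [Group K] [Finite K] (D : Setup K)

omit [Finite K] in
theorem N_le_T : D.N ≤ (D.T : Subgroup K) := D.N_le_S.trans D.S_le_T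

omit [Finite K] in
theorem conj_mem_N {a n : K} (ha : a ∈ (D.T : Subgroup K)) (hn : n ∈ D.N) : a * n * a⁻¹ ∈ D.N := by
  have hle : D.N.map (MulAut.conj a).toMonoidHom ≤ D.N := by
    rw [N, map_commutator, commutator_le]
    rintro _ ⟨x, hx, rfl⟩ _ ⟨y, hy, rfl⟩
    exact commutator_mem_commutator
      ((D.T : Subgroup K).mul_mem ((D.T : Subgroup K).mul_mem ha hx) ((D.T : Subgroup K).inv_mem ha))
      ((D.T : Subgroup K).mul_mem ((D.T : Subgroup K).mul_mem ha hy) ((D.T : Subgroup K).inv_mem ha))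
  exact hle ⟨n, hn, rfl⟩

omit [Finite K] in
theorem conj_mem_N' {a n : K} (ha : a ∈ (D.T : Subgroup K)) (hn : n ∈ D.N) : a⁻¹ * n * a ∈ D.N := by
  have := D.conj_mem_N ((D.T : Subgroup K).inv_mem ha) hn
  rwa [inv_inv] at this

omit [Finite K] in
theorem comm_mem_N {x y : K} (hx : x ∈ (D.T : Subgroup K)) (hy : y ∈ (D.T : Subgroup K)) :
    x * y * x⁻¹ * y⁻¹ ∈ D.N := by
  rw [← commutatorElement_def]; exact commutator_mem_commutator hx hy

theorem t_conj_N {n : K} (hn : n ∈ D.N) : D.t * n * D.t = n⁻¹ := by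
  obtain ⟨s, -, rfl⟩ := D.exists_psi hn
  show D.t * (s⁻¹ * (D.t * s * D.t)) * D.t = (s⁻¹ * (D.t * s * D.t))⁻¹
  rw [mul_inv_rev, inv_inv, mul_inv_rev, mul_inv_rev, D.t_inv]
  calc D.t * (s⁻¹ * (D.t * s * D.t)) * D.t
      = D.t * s⁻¹ * D.t * s * (D.t * D.t) := by simp only [mul_assoc]
    _ = D.t * (s⁻¹ * D.t) * s := by rw [D.tt, mul_one, mul_assoc D.t]

theorem N_comm {x y : K} (hx : x ∈ D.N) (hy : y ∈ D.N) : x * y = y * x := by
  have h := D.t_conj_N (mul_mem hx hy)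
  rw [mul_inv_rev, ← D.t_conj_N hy, ← D.t_conj_N hx] at h
  have h2 := congrArg (fun v => D.t * v * D.t) h
  simp only [mul_assoc, D.tt_cancel, D.tt, mul_one] at h2
  exact h2

theorem N_invol {n : K} (hn : n ∈ D.N) (h2 : n * n = 1) (h1 : n ≠ 1) : n = D.z := by
  refine D.fixed_involution (D.N_le_S hn) ?_ h2 h1
  have h := D.t_conj_N hn
  rw [inv_eq_of_mul_eq_one_left h2] at h
  calc n * D.t = D.t * n * D.t * D.t := by rw [h]
    _ = D.t * n := by rw [mul_assoc, D.tt, mul_one]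

theorem N_ne_bot : D.N ≠ ⊥ := by
  intro h
  have hS : D.S ≤ zpowers D.c := by
    intro s hs
    refine D.fixed_mem hs ?_
    have h1 := D.psi_mem hs.1
    rw [h, mem_bot] at h1
    have h2 : D.t * s * D.t = s := by
      have := congrArg (fun v => s * v) h1
      simpa [psi] using this
    calc s * D.t = D.t * s * D.t * D.t := by rw [h2]
      _ = D.t * s := by rw [mul_assoc, D.tt, mul_one]
  have h1 := Nat.card_le_card_of_injective _ (inclusion_injective hS)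
  rw [Nat.card_zpowers, D.c_ord] at h1
  have := D.card_S
  omega

theorem isPGroup_N : IsPGroup 2 D.N := D.T.2.to_le D.N_le_T

theorem z_mem_N : D.z ∈ D.N := by
  haveI : Fact (Nat.Prime 2) := ⟨Nat.prime_two⟩
  haveI : Nontrivial D.N := D.N.nontrivial_iff_ne_bot.2 D.N_ne_bot
  obtain ⟨k, hk, hk2⟩ := IsPGroup.nontrivial_iff_card D.isPGroup_N |>.1 inferInstance
  obtain ⟨x, hx⟩ := exists_prime_orderOf_dvd_card' (G := D.N) 2
    (by rw [hk2]; exact dvd_pow_self 2 hk.ne')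
  have h2 : (x : K) * (x : K) = 1 := by
    have := pow_orderOf_eq_one x
    rw [hx, pow_two] at this
    exact congrArg Subtype.val this
  have h1 : (x : K) ≠ 1 := fun h => by
    rw [show x = 1 from Subtype.ext h, orderOf_one] at hx
    omega
  exact D.N_invol x.2 h2 h1 ▸ x.2

theorem N_cyclic : IsCyclic D.N := by
  haveI : Fact (Nat.Prime 2) := ⟨Nat.prime_two⟩
  haveI : IsMulCommutative D.N := ⟨⟨fun x y => Subtype.ext (D.N_comm x.2 y.2)⟩⟩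
  refine CfsgLib.PGroups.isCyclic_of_abelian_of_unique D.isPGroup_N (z := ⟨D.z, D.z_mem_N⟩) ?_
    (Subtype.ext (show D.z ^ 2 = 1 by rw [pow_two, D.zz]))
  intro y hy
  by_cases h : (y : K) = 1
  · rw [show y = 1 from Subtype.ext h]; exact one_mem _
  · have h2 : (y : K) * y = 1 := by rw [← pow_two]; exact congrArg Subtype.val hy
    rw [show y = ⟨D.z, D.z_mem_N⟩ from Subtype.ext (D.N_invol y.2 h2 h)]
    exact mem_zpowers _

/-- A generator of `N`. -/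
noncomputable def e : K :=
  haveI := D.N_cyclic
  ((IsCyclic.exists_generator (α := D.N)).choose : D.N)

theorem e_mem : D.e ∈ D.N :=
  haveI := D.N_cyclic
  ((IsCyclic.exists_generator (α := D.N)).choose).2

theorem mem_N_iff {n : K} : n ∈ D.N ↔ ∃ i : ℤ, D.e ^ i = n := by
  constructor
  · intro hn
    haveI := D.N_cyclic
    obtain ⟨i, hi⟩ := mem_zpowers_iff.1
      ((IsCyclic.exists_generator (α := D.N)).choose_spec ⟨n, hn⟩)
    exact ⟨i, congrArg Subtype.val hi⟩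
  · rintro ⟨i, rfl⟩; exact zpow_mem D.e_mem i

theorem e_ne : D.e ≠ 1 := fun h => D.N_ne_bot (by
  rw [eq_bot_iff]
  intro n hn
  obtain ⟨i, rfl⟩ := D.mem_N_iff.1 hn
  rw [h, one_zpow]; exact one_mem _)

theorem odd_eq_one {x : K} (hx : x ∈ (D.T : Subgroup K)) {o : ℤ} (ho : Odd o) (h : x ^ o = 1) :
    x = 1 :=
  congrArg Subtype.val
    (eq_one_of_odd_zpow (X := ↥(D.T : Subgroup K)) D.T.2 (x := ⟨x, hx⟩) ho (Subtype.ext (by simpa using h)))

theorem z_comm {x : K} (hx : x ∈ (D.T : Subgroup K)) : x * D.z = D.z * x := by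
  have h := D.N_invol (D.conj_mem_N hx D.z_mem_N)
    (by rw [show x * D.z * x⁻¹ * (x * D.z * x⁻¹) = x * (D.z * D.z) * x⁻¹ by group, D.zz, mul_one,
      mul_inv_cancel])
    (fun h => D.z_ne (conj_eq_one_iff.1 h))
  calc x * D.z = x * D.z * x⁻¹ * x := by group
    _ = D.z * x := by rw [h]

theorem z_inv : D.z⁻¹ = D.z := inv_eq_of_mul_eq_one_right D.zz

theorem c_notin_N : D.c ∉ D.N := by
  intro h
  have h1 := D.t_conj_N h
  rw [← D.c_comm, mul_assoc, D.tt, mul_one] at h1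
  exact D.c_sq_ne (by nth_rw 1 [h1]; rw [inv_mul_cancel])

theorem c_inv : D.c⁻¹ = D.c * D.z := by
  refine inv_eq_of_mul_eq_one_right ?_
  show D.c * (D.c * D.z) = 1
  rw [← mul_assoc]
  exact D.zz

theorem exists_exponent {x : K} (hx : x ∈ (D.T : Subgroup K)) :
    ∃ k : ℤ, Odd k ∧ ∀ n ∈ D.N, x * n * x⁻¹ = n ^ k := by
  obtain ⟨k, hk⟩ := D.mem_N_iff.1 (D.conj_mem_N hx D.e_mem)
  have hall : ∀ n ∈ D.N, x * n * x⁻¹ = n ^ k := by
    intro n hn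
    obtain ⟨i, rfl⟩ := D.mem_N_iff.1 hn
    rw [← conj_zpow, ← hk, ← zpow_mul, ← zpow_mul, mul_comm]
  refine ⟨k, ?_, hall⟩
  rcases Int.even_or_odd' k with ⟨q, rfl | rfl⟩
  · exfalso
    have := hall D.z D.z_mem_N
    rw [zpow_mul, zpow_two, D.zz, one_zpow] at this
    exact D.z_ne (conj_eq_one_iff.1 this)
  · exact ⟨q, rfl⟩

theorem exists_root {n : K} (hn : n ∈ D.N) {o : ℤ} (ho : Odd o) : ∃ x ∈ D.N, x ^ o = n := by
  obtain ⟨k, hk⟩ := D.isPGroup_N ⟨n, hn⟩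
  have hk' : n ^ (2 ^ k) = 1 := congrArg Subtype.val hk
  have hcop : IsCoprime o ((2 ^ k : ℕ) : ℤ) := by
    push_cast
    obtain ⟨q, rfl⟩ := ho
    exact IsCoprime.pow_right ⟨1, -q, by ring⟩
  obtain ⟨u, v, huv⟩ := hcop
  refine ⟨n ^ u, zpow_mem hn u, ?_⟩
  conv_rhs => rw [← zpow_one n, ← huv, zpow_add, mul_comm v, zpow_mul n _ v, zpow_natCast, hk',
    one_zpow, mul_one]
  rw [← zpow_mul]

/-- The squares in `N`. -/
def Sq (n : K) : Prop := ∃ m ∈ D.N, m * m = n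

theorem sq_iff {n : K} : D.Sq n ↔ ∃ i : ℤ, D.e ^ (2 * i) = n := by
  constructor
  · rintro ⟨m, hm, rfl⟩
    obtain ⟨i, rfl⟩ := D.mem_N_iff.1 hm
    exact ⟨i, by rw [two_mul, zpow_add]⟩
  · rintro ⟨i, rfl⟩
    exact ⟨D.e ^ i, zpow_mem D.e_mem i, by rw [two_mul, zpow_add]⟩

theorem not_sq_e : ¬ D.Sq D.e := by
  rw [sq_iff]
  rintro ⟨i, hi⟩
  refine D.e_ne (D.odd_eq_one (D.N_le_T D.e_mem) (o := 2 * i - 1) ⟨i - 1, by ring⟩ ?_)
  rw [zpow_sub, hi, zpow_one, mul_inv_cancel]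

theorem sq_or {n : K} (hn : n ∈ D.N) : D.Sq n ∨ ∃ i : ℤ, D.e ^ (2 * i + 1) = n := by
  obtain ⟨i, rfl⟩ := D.mem_N_iff.1 hn
  rcases Int.even_or_odd' i with ⟨q, rfl | rfl⟩
  · exact Or.inl (D.sq_iff.2 ⟨q, rfl⟩)
  · exact Or.inr ⟨q, rfl⟩

theorem sq_of_not {n m : K} (hn : n ∈ D.N) (hm : m ∈ D.N) (hn' : ¬ D.Sq n) (hm' : ¬ D.Sq m) :
    D.Sq (n * m) := by
  obtain ⟨i, rfl⟩ := (D.sq_or hn).resolve_left hn'
  obtain ⟨j, rfl⟩ := (D.sq_or hm).resolve_left hm'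
  exact D.sq_iff.2 ⟨i + j + 1, by rw [← zpow_add]; congr 1; ring⟩

theorem gen_of_not_sq {n : K} (hn : n ∈ D.N) (hn' : ¬ D.Sq n) :
    ∀ x ∈ D.N, ∃ i : ℤ, n ^ i = x := by
  obtain ⟨j, rfl⟩ := (D.sq_or hn).resolve_left hn'
  intro x hx
  obtain ⟨y, hy, rfl⟩ := D.exists_root hx (show Odd (2 * j + 1) from ⟨j, rfl⟩)
  obtain ⟨i, rfl⟩ := D.mem_N_iff.1 hy
  exact ⟨i, by rw [← zpow_mul, ← zpow_mul, mul_comm]⟩

theorem sq_conj {a n : K} (ha : a ∈ (D.T : Subgroup K)) (h : D.Sq n) : D.Sq (a⁻¹ * n * a) := by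
  obtain ⟨m, hm, rfl⟩ := h
  exact ⟨a⁻¹ * m * a, D.conj_mem_N' ha hm, by group⟩

omit [Finite K] in
theorem psi_mul (x y : K) : D.psi (x * y) = y⁻¹ * D.psi x * y * D.psi y := by
  show (x * y)⁻¹ * (D.t * (x * y) * D.t) =
    y⁻¹ * (x⁻¹ * (D.t * x * D.t)) * y * (y⁻¹ * (D.t * y * D.t))
  rw [mul_inv_rev]
  simp only [mul_assoc, mul_inv_cancel_left, D.tt_cancel]

theorem psi_N {n : K} (hn : n ∈ D.N) : D.psi n = n⁻¹ * n⁻¹ := by
  show n⁻¹ * (D.t * n * D.t) = _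
  rw [D.t_conj_N hn]

omit [Finite K] in
theorem psi_c : D.psi D.c = 1 := by
  show D.c⁻¹ * (D.t * D.c * D.t) = 1
  rw [← D.c_comm, mul_assoc D.c, D.tt, mul_one, inv_mul_cancel]

omit [Finite K] in
theorem psi_one : D.psi 1 = 1 := by
  show (1 : K)⁻¹ * (D.t * 1 * D.t) = 1
  rw [inv_one, one_mul, mul_one, D.tt]

/-- The elements `x` of `S` with `x⁻¹ t x t` a square in `N`. -/
def L : Subgroup K where
  carrier := {x | x ∈ D.S ∧ D.Sq (D.psi x)}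
  one_mem' := ⟨one_mem _, 1, one_mem _, by rw [one_mul, D.psi_one]⟩
  mul_mem' := by
    rintro x y ⟨hx, m, hm, hmx⟩ ⟨hy, m', hm', hmy⟩
    refine ⟨mul_mem hx hy, y⁻¹ * m * y * m', mul_mem (D.conj_mem_N' hy.1 hm) hm', ?_⟩
    have hc : m' * (y⁻¹ * m * y) = y⁻¹ * m * y * m' := D.N_comm hm' (D.conj_mem_N' hy.1 hm)
    rw [D.psi_mul, ← hmx, ← hmy]
    calc y⁻¹ * m * y * m' * (y⁻¹ * m * y * m')
        = y⁻¹ * m * y * (m' * (y⁻¹ * m * y)) * m' := by group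
      _ = y⁻¹ * m * y * (y⁻¹ * m * y * m') * m' := by rw [hc]
      _ = _ := by group
  inv_mem' := by
    rintro x ⟨hx, m, hm, hmx⟩
    refine ⟨inv_mem hx, x * m⁻¹ * x⁻¹, D.conj_mem_N hx.1 (inv_mem hm), ?_⟩
    have h := D.psi_mul x x⁻¹
    rw [mul_inv_cancel, D.psi_one, ← hmx, inv_inv] at h
    rw [eq_inv_of_mul_eq_one_right h.symm]
    group

theorem L_le_S : D.L ≤ D.S := fun _ hx => hx.1

theorem N_le_L : D.N ≤ D.L := fun n hn => ⟨D.N_le_S hn, n⁻¹, inv_mem hn, (D.psi_N hn).symm⟩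

theorem c_mem_L : D.c ∈ D.L := ⟨D.c_mem, 1, one_mem _, by rw [one_mul, D.psi_c]⟩

theorem L_cases {x : K} (hx : x ∈ D.L) : ∃ n ∈ D.N, x = n ∨ x = D.c * n := by
  obtain ⟨hxS, m, hm, hmx⟩ := hx
  have hfix : x * m ∈ zpowers D.c := by
    refine D.fixed_mem (mul_mem hxS (D.N_le_S hm)) ?_
    have h : D.psi (x * m) = 1 := by
      rw [D.psi_mul, D.psi_N hm, ← hmx, show m⁻¹ * (m * m) * m * (m⁻¹ * m⁻¹) = 1 by group]
    have h2 : D.t * (x * m) * D.t = x * m := by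
      have h3 : x * m * D.psi (x * m) = x * m := by rw [h, mul_one]
      rwa [psi, mul_inv_cancel_left] at h3
    calc x * m * D.t = D.t * (x * m) * D.t * D.t := by rw [h2]
      _ = D.t * (x * m) := by rw [mul_assoc, D.tt, mul_one]
  obtain ⟨i, hi⟩ := mem_zpowers_iff.1 hfix
  rcases Int.even_or_odd' i with ⟨q, rfl | rfl⟩
  · refine ⟨x, ?_, Or.inl rfl⟩
    rw [eq_mul_inv_of_mul_eq hi.symm, zpow_mul, zpow_two]
    exact mul_mem (zpow_mem (show D.c * D.c ∈ D.N from D.z_mem_N) q) (inv_mem hm)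
  · refine ⟨(D.c * D.c) ^ q * m⁻¹, mul_mem (zpow_mem (show D.c * D.c ∈ D.N from D.z_mem_N) q) (inv_mem hm),
      Or.inr ?_⟩
    rw [eq_mul_inv_of_mul_eq hi.symm, zpow_add, zpow_mul, zpow_two, zpow_one,
      ← mul_assoc, (((Commute.refl D.c).mul_right (Commute.refl D.c)).zpow_right q).eq]

theorem L_sq {x : K} (hx : x ∈ D.L) : x * x ∈ D.N := by
  obtain ⟨n, hn, rfl | rfl⟩ := D.L_cases hx
  · exact mul_mem hn hn
  · rw [show D.c * n * (D.c * n) = D.c * n * D.c⁻¹ * (D.c * D.c) * n by group]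
    exact mul_mem (mul_mem (D.conj_mem_N D.c_memT hn) D.z_mem_N) hn

theorem mul_mem_L {x y : K} (hx : x ∈ D.S) (hx' : x ∉ D.L) (hy : y ∈ D.S) (hy' : y ∉ D.L) :
    x * y ∈ D.L := by
  refine ⟨mul_mem hx hy, ?_⟩
  have h1 : ¬ D.Sq (D.psi x) := fun h => hx' ⟨hx, h⟩
  have h2 : ¬ D.Sq (D.psi y) := fun h => hy' ⟨hy, h⟩
  have h3 : ¬ D.Sq (y⁻¹ * D.psi x * y) := fun h => h1 (by
    have := D.sq_conj ((D.T : Subgroup K).inv_mem hy.1) h
    rwa [inv_inv, show y * (y⁻¹ * D.psi x * y) * y⁻¹ = D.psi x by group] at this)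
  rw [D.psi_mul]
  exact D.sq_of_not (D.conj_mem_N' hy.1 (D.psi_mem hx.1)) (D.psi_mem hy.1) h3 h2

theorem exists_not_L : ∃ f ∈ D.S, f ∉ D.L := by
  obtain ⟨f, hf, hfe⟩ := D.exists_psi D.e_mem
  exact ⟨f, hf, fun h => D.not_sq_e (hfe ▸ h.2)⟩

theorem inv_mul_mem_L {f x : K} (hf : f ∈ D.S) (hf' : f ∉ D.L) (hx : x ∈ D.S) (hx' : x ∉ D.L) :
    f⁻¹ * x ∈ D.L :=
  D.mul_mem_L (inv_mem hf) (fun h => hf' (inv_mem_iff.1 h)) hx hx'

/-- An element of a subgroup whose squares lie in `N`: a power squares to `z`. -/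
theorem exists_pow_z {x : K} (hx : x ∈ (D.T : Subgroup K))
    (hsq : ∀ y ∈ zpowers x, y * y ∈ D.N) (h2 : x * x ≠ 1) :
    ∃ y ∈ zpowers x, y * y = D.z := by
  haveI : Fact (Nat.Prime 2) := ⟨Nat.prime_two⟩
  obtain ⟨k, hk⟩ := D.T.2 ⟨x, hx⟩
  have hk' : x ^ (2 ^ k) = 1 := congrArg Subtype.val hk
  obtain ⟨j, -, hj⟩ := (Nat.dvd_prime_pow Nat.prime_two).1 (orderOf_dvd_of_pow_eq_one hk')
  have hj2 : 2 ≤ j := by
    by_contra h
    refine h2 ?_
    rw [← pow_two]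
    refine orderOf_dvd_iff_pow_eq_one.1 ?_
    rw [hj]
    exact (Nat.pow_dvd_pow 2 (show j ≤ 1 by omega)).trans (by norm_num)
  obtain ⟨i, rfl⟩ := Nat.exists_eq_add_of_le hj2
  refine ⟨x ^ (2 ^ i), pow_mem (mem_zpowers x) _,
    D.N_invol (hsq _ (pow_mem (mem_zpowers x) _)) ?_ ?_⟩
  · rw [← pow_add, ← pow_add, show 2 ^ i + 2 ^ i + (2 ^ i + 2 ^ i) = 2 ^ (2 + i) by
      rw [pow_add]; ring, ← hj, pow_orderOf_eq_one]
  · intro h
    rw [← pow_add, show 2 ^ i + 2 ^ i = 2 ^ (1 + i) by rw [pow_add]; ring] at h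
    have h3 := orderOf_dvd_of_pow_eq_one h
    rw [hj, Nat.pow_dvd_pow_iff_le_right (by norm_num)] at h3
    omega

theorem sq_z (h : D.e * D.e ≠ 1) : D.Sq D.z := by
  obtain ⟨y, hy, hyz⟩ := D.exists_pow_z (D.N_le_T D.e_mem)
    (fun y hy => mul_mem (zpowers_le.2 D.e_mem hy) (zpowers_le.2 D.e_mem hy)) h
  exact ⟨y, zpowers_le.2 D.e_mem hy, hyz⟩

end Setup

end CfsgLib.SemiCyc4
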